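import Mathlib
import Cfsg.Agent.Zsigmondy.PrimitivePart

/-!
# No transitive linear group of dimension at least two carries two Clifford characters

The linear-group arithmetic behind blocks with three irreducible characters: a `p'`-group `E`
transitive on the nonzero vectors of an elementary group of rank `m ≥ 2`, with square point
stabilisers, order a sum of two squares and at most one good nontrivial class, does not exist.
-/

set_option autoImplicit false
set_option linter.style.haveILetI false

namespace CfsgLib.ThreeNormal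

open Polynomial

/-- A number is not `3` modulo `4` if some multiple by an even-valued number is a sum of two
squares. -/
theorem mod_four_ne_three {u s a b : ℕ} (hs : s ≠ 0) (h : u * s = a ^ 2 + b ^ 2)
    (he : ∀ q : ℕ, q.Prime → q % 4 = 3 → Even (padicValNat q s)) : u % 4 ≠ 3 := by
  intro hu
  have hu0 : u ≠ 0 := by omega
  obtain ⟨x, y, hxy⟩ : ∃ x y, u = x ^ 2 + y ^ 2 := by
    refine Nat.eq_sq_add_sq_iff.2 fun q hq hq4 => ?_
    have hqp := Nat.prime_of_mem_primeFactors hq
    haveI := Fact.mk hqp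
    have h1 : Even (padicValNat q (u * s)) :=
      (Nat.eq_sq_add_sq_iff.1 ⟨a, b, h⟩) q (Nat.mem_primeFactors.2
        ⟨hqp, (Nat.dvd_of_mem_primeFactors hq).mul_right s, Nat.mul_ne_zero hu0 hs⟩) hq4
    rw [padicValNat.mul hu0 hs, Nat.even_add] at h1
    exact h1.2 (he q hqp hq4)
  have hx : x ^ 2 % 4 = 0 ∨ x ^ 2 % 4 = 1 := by
    rw [Nat.pow_mod]; have := Nat.mod_lt x (show 4 > 0 by norm_num)
    interval_cases x % 4 <;> simp
  have hy : y ^ 2 % 4 = 0 ∨ y ^ 2 % 4 = 1 := by
    rw [Nat.pow_mod]; have := Nat.mod_lt y (show 4 > 0 by norm_num)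
    interval_cases y % 4 <;> simp
  omega

theorem even_padicValNat_two_pow_mul_sq {k c : ℕ} (hc : c ≠ 0) (q : ℕ) (hq : q.Prime)
    (hq4 : q % 4 = 3) : Even (padicValNat q (2 ^ k * c ^ 2)) := by
  haveI := Fact.mk hq
  have h2 : padicValNat q (2 ^ k) = 0 := padicValNat.eq_zero_of_not_dvd fun h => by
    have := (Nat.prime_dvd_prime_iff_eq hq Nat.prime_two).1 (hq.dvd_of_dvd_pow h)
    omega
  rw [padicValNat.mul (by positivity) (pow_ne_zero 2 hc), h2, zero_add, padicValNat.pow]
  exact even_two_mul _

theorem dvd_orbit_card {P α : Type*} [Group P] [MulAction P α] [Finite α] {k : ℕ}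
    (h : ∀ x : α, k ∣ Nat.card (MulAction.orbit P x)) : k ∣ Nat.card α := by
  haveI := Fintype.ofFinite (MulAction.orbitRel.Quotient P α)
  rw [Nat.card_congr (MulAction.selfEquivSigmaOrbits P α), Nat.card_sigma]
  exact Finset.dvd_sum fun o _ => h _

section Linear

variable {p : ℕ} [Fact p.Prime] {W : Type*} [AddCommGroup W] [Module (ZMod p) W] [Finite W]
variable {E : Type*} [Group E] [Finite E]

theorem card_submodule (U : Submodule (ZMod p) W) :
    Nat.card U = p ^ Module.finrank (ZMod p) U := by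
  haveI : Fintype U := Fintype.ofFinite _
  rw [Nat.card_eq_fintype_card, Module.card_eq_pow_finrank (K := ZMod p), ZMod.card]

theorem card_nonzero (U : Submodule (ZMod p) W) :
    Nat.card {v : U // v ≠ 0} = p ^ Module.finrank (ZMod p) U - 1 := by
  classical
  haveI : Fintype U := Fintype.ofFinite _
  rw [Nat.card_eq_fintype_card, Fintype.card_subtype_compl, Fintype.card_subtype_eq,
    ← Nat.card_eq_fintype_card, card_submodule]

/-- Everything known about the group of Lemma L. -/
structure Data (ρ : E →* (W ≃ₗ[ZMod p] W)) (a b : ℕ) : Prop where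
  inj : Function.Injective ρ
  two_le : 2 ≤ Module.finrank (ZMod p) W
  coprime : ¬ p ∣ Nat.card E
  trans : ∀ v w : W, v ≠ 0 → w ≠ 0 → ∃ g, ρ g v = w
  stab_sq : ∀ v : W, v ≠ 0 → ∃ c, Nat.card {g : E // ρ g v = v} = c ^ 2
  pos_left : 0 < a
  pos_right : 0 < b
  card_eq : Nat.card E = a ^ 2 + b ^ 2
  unique : ∀ x y : E, x ≠ 1 → y ≠ 1 → IsCyclic (Subgroup.centralizer ({x} : Set E)) →
    IsCyclic (Subgroup.centralizer ({y} : Set E)) → IsConj x y
  integral : ∀ x : E, (orderOf x).Prime →
    Subgroup.centralizer ({x} : Set E) = Subgroup.zpowers x →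
    (∀ i : ℕ, ¬ orderOf x ∣ i → IsConj x (x ^ i)) →
    ∃ z : ℤ, z * ((a : ℤ) ^ 2 + (b : ℤ) ^ 2) = (orderOf x : ℤ) * (b : ℤ) ^ 2

variable {ρ : E →* (W ≃ₗ[ZMod p] W)} {a b : ℕ}

namespace Data

theorem exists_ne_zero (hd : Data ρ a b) : ∃ v : W, v ≠ 0 := by
  haveI : Nontrivial W := Module.nontrivial_of_finrank_pos (R := ZMod p) (by
    have := hd.two_le; omega)
  exact exists_ne 0

theorem card_eq_mul (hd : Data ρ a b) {v : W} (hv : v ≠ 0) :
    Nat.card E = (p ^ Module.finrank (ZMod p) W - 1) * Nat.card {g : E // ρ g v = v} := by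
  classical
  haveI := Fintype.ofFinite W
  let f : E → {w : W // w ≠ 0} := fun g =>
    ⟨ρ g v, fun h => hv ((ρ g).map_eq_zero_iff.1 h)⟩
  have hsurj : ∀ w, ∃ g, f g = w := fun w => by
    obtain ⟨g, hg⟩ := hd.trans v w hv w.2
    exact ⟨g, Subtype.ext hg⟩
  choose g hg using hsurj
  have hfib : ∀ w, Nat.card {x : E // f x = w} = Nat.card {x : E // ρ x v = v} := fun w => by
    refine Nat.card_congr ((Equiv.subtypeEquiv (Equiv.mulLeft (g w)⁻¹) fun x => ?_))
    have hw : ρ (g w) v = w := congrArg Subtype.val (hg w)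
    constructor
    · intro h
      have hx : ρ x v = w := congrArg Subtype.val h
      simp [map_inv, hx, ← hw]
    · intro h
      refine Subtype.ext (show ρ x v = w from ?_)
      have h' : ρ (g w)⁻¹ (ρ x v) = v := by simpa using h
      rw [← hw]
      conv_rhs => rw [← h']
      simp [map_inv]
  rw [← Nat.card_congr (Equiv.sigmaFiberEquiv f), Nat.card_sigma, Finset.sum_congr rfl
    fun w _ => hfib w, Finset.sum_const, Finset.card_univ, smul_eq_mul]
  congr 1
  rw [Fintype.card_subtype_compl, Fintype.card_subtype_eq, Module.card_eq_pow_finrank (K := ZMod p),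
    ZMod.card]

theorem exists_sq (hd : Data ρ a b) :
    ∃ c, c ≠ 0 ∧ (p ^ Module.finrank (ZMod p) W - 1) * c ^ 2 = a ^ 2 + b ^ 2 := by
  obtain ⟨v, hv⟩ := hd.exists_ne_zero
  obtain ⟨c, hc⟩ := hd.stab_sq v hv
  have h := hd.card_eq_mul hv
  rw [hc, hd.card_eq] at h
  refine ⟨c, fun h0 => ?_, h.symm⟩
  rw [h0] at h
  have := hd.pos_left
  have := Nat.pow_pos (n := 2) this
  omega

theorem dvd_card (hd : Data ρ a b) : p ^ Module.finrank (ZMod p) W - 1 ∣ Nat.card E := by
  obtain ⟨v, hv⟩ := hd.exists_ne_zero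
  exact Dvd.intro _ (hd.card_eq_mul hv).symm

theorem ne_two (hd : Data ρ a b) : p ≠ 2 := by
  rintro rfl
  obtain ⟨c, hc0, hc⟩ := hd.exists_sq
  refine mod_four_ne_three (pow_ne_zero 2 hc0) hc (fun q hq hq4 => ?_) ?_
  · simpa using even_padicValNat_two_pow_mul_sq (k := 0) hc0 q hq hq4
  · obtain ⟨j, hj⟩ := Nat.exists_eq_add_of_le hd.two_le
    rw [hj, pow_add]
    have : 0 < 2 ^ j := Nat.two_pow_pos j
    omega

theorem not_mersenne (hd : Data ρ a b) (hm : Module.finrank (ZMod p) W = 2) {k : ℕ}
    (hk : 3 ≤ k) (hp : p + 1 = 2 ^ k) : False := by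
  obtain ⟨c, hc0, hc⟩ := hd.exists_sq
  obtain ⟨j, rfl⟩ := Nat.exists_eq_add_of_le hk
  have h2 : 0 < 2 ^ j := Nat.two_pow_pos j
  have hpe : p = 8 * 2 ^ j - 1 := by rw [pow_add] at hp; omega
  have hn : p ^ 2 - 1 = (4 * 2 ^ j - 1) * 2 ^ (3 + j + 1) := by
    have h1 : p ^ 2 - 1 = (p + 1) * (p - 1) := by
      have := Nat.sq_sub_sq p 1; simpa using this
    rw [h1, hpe, show 8 * 2 ^ j - 1 + 1 = 8 * 2 ^ j by omega,
      show 8 * 2 ^ j - 1 - 1 = 2 * (4 * 2 ^ j - 1) by omega, pow_add, pow_add]
    ring
  rw [hm, hn, mul_assoc] at hc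
  refine mod_four_ne_three (mul_ne_zero (by positivity) (pow_ne_zero 2 hc0)) hc
    (fun q hq hq4 => even_padicValNat_two_pow_mul_sq hc0 q hq hq4) ?_
  omega

theorem not_three_two (hd : Data ρ a b) (hm : Module.finrank (ZMod p) W = 2) (hp : p = 3) :
    False := by
  classical
  subst hp
  obtain ⟨v, hv⟩ := hd.exists_ne_zero
  have hGL : Nat.card (W ≃ₗ[ZMod 3] W) = 48 := by
    have e : W ≃ₗ[ZMod 3] (Fin 2 → ZMod 3) :=
      (Module.finBasisOfFinrankEq (ZMod 3) W hm).equivFun
    rw [Nat.card_congr (show (W ≃ₗ[ZMod 3] W) ≃ GL (Fin 2) (ZMod 3) from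
      ((LinearMap.GeneralLinearGroup.generalLinearEquiv (ZMod 3) W).symm.toEquiv.trans
        ((Units.mapEquiv e.conjRingEquiv.toMulEquiv).toEquiv.trans
          Matrix.GeneralLinearGroup.toLin.symm.toEquiv))), Matrix.card_GL_field]
    simp [Fin.prod_univ_two]
  obtain ⟨c, hc⟩ := hd.stab_sq v hv
  have h48 : Nat.card E ∣ 48 := hGL ▸ Subgroup.card_dvd_of_injective ρ hd.inj
  have hE := hd.card_eq_mul hv
  rw [hm, hc] at hE
  rw [hE, show 48 = (3 ^ 2 - 1) * 6 from rfl] at h48
  have h6 := Nat.dvd_of_mul_dvd_mul_left (by norm_num) h48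
  have hc1 : c ^ 2 = 1 := by
    have hle := Nat.le_of_dvd (by norm_num) h6
    have hlt : c < 3 := by nlinarith
    interval_cases c <;> simp_all
  rw [hc1, Nat.card_eq_one_iff_unique] at hc
  have hfree : ∀ g : E, ρ g v = v → g = 1 := fun g hg => congrArg Subtype.val
    (@Subsingleton.elim _ hc.1 (⟨g, hg⟩ : {g : E // ρ g v = v}) ⟨1, by simp⟩)
  have hfree' : ∀ (g : E) (w : W), w ≠ 0 → ρ g w = w → g = 1 := by
    intro g w hw hg
    obtain ⟨h, hh⟩ := hd.trans v w hv hw
    have h' : ρ h⁻¹ w = v := by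
      rw [map_inv, ← hh]; exact (ρ h).symm_apply_apply v
    have := hfree (h⁻¹ * g * h) (by
      rw [map_mul, map_mul, LinearEquiv.mul_apply, LinearEquiv.mul_apply, hh, hg, h'])
    exact (conj_eq_one_iff (a := h⁻¹) (b := g)).1 (by rwa [inv_inv])
  have hcard : Nat.card E = 8 := by
    rw [hE, hc1]; norm_num
  have hinv : ∀ s t : E, orderOf s = 2 → orderOf t = 2 → s = t := by
    have key : ∀ t : E, orderOf t = 2 → ∀ w, ρ t w = -w := by
      intro t ht w
      by_contra hw
      have h2 : t * t = 1 := by rw [← pow_two, ← ht, pow_orderOf_eq_one]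
      have := hfree' t (w + ρ t w) (fun h0 => hw (eq_neg_of_add_eq_zero_right h0)) (by
        rw [map_add, ← LinearEquiv.mul_apply, ← map_mul, h2, map_one, LinearEquiv.coe_one, id,
          add_comm])
      rw [this, orderOf_one] at ht
      omega
    exact fun s t hs ht => hd.inj (LinearEquiv.ext fun w => by rw [key s hs, key t ht])
  by_cases h8 : ∃ x : E, orderOf x = 8
  · -- cyclic
    obtain ⟨x, hx⟩ := h8
    haveI : IsCyclic E := isCyclic_of_orderOf_eq_card x (by rw [hx, hcard])
    have hx3 : x ^ 3 ≠ 1 := fun h => by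
      have := Nat.le_of_dvd (by norm_num) (orderOf_dvd_of_pow_eq_one h); omega
    have hxn : x ≠ 1 := fun h => by simp [h] at hx
    obtain ⟨g, hg⟩ := isConj_iff.1 (hd.unique x (x ^ 3) hxn hx3 inferInstance inferInstance)
    letI : CommGroup E := IsCyclic.commGroup
    have : x ^ 2 = 1 := by
      rw [mul_comm, inv_mul_cancel_left] at hg
      have := hg.symm
      rw [pow_succ, mul_eq_right] at this
      exact this
    have := Nat.le_of_dvd (by norm_num) (orderOf_dvd_of_pow_eq_one this)
    omega
  · have h4 : ∀ x : E, x ≠ 1 → orderOf x ≠ 2 → orderOf x = 4 := by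
      intro x hx hx2
      have hdvd : orderOf x ∣ 8 := hcard ▸ orderOf_dvd_natCard x
      have h8' : orderOf x ≠ 8 := fun h => h8 ⟨x, h⟩
      have h1 : orderOf x ≠ 1 := fun h => hx (orderOf_eq_one_iff.1 h)
      have hle := Nat.le_of_dvd (by norm_num) hdvd
      interval_cases h : orderOf x <;> omega
    have hbig : ∀ x : E, orderOf x = 4 → ∃ g, g ∉ Subgroup.zpowers x := by
      intro x hx
      by_contra! h
      have : Subgroup.zpowers x = ⊤ := eq_top_iff.2 fun g _ => h g
      have hc := Nat.card_zpowers x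
      rw [this, Subgroup.card_top, hcard, hx] at hc
      omega
    have hnotin : ∀ x g : E, orderOf x = 4 → g ∉ Subgroup.zpowers x → orderOf g = 4 := by
      intro x g hx hg
      refine h4 g (fun h => hg (h ▸ one_mem _)) fun h2 => hg ?_
      have : orderOf (x ^ 2) = 2 := by rw [orderOf_pow' x (by norm_num), hx]; norm_num
      rw [hinv g (x ^ 2) h2 this]
      exact Subgroup.npow_mem_zpowers x 2
    have hcen : ∀ x : E, orderOf x = 4 →
        Subgroup.centralizer ({x} : Set E) ≤ Subgroup.zpowers x := by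
      intro x hx g hg
      by_contra hgn
      have hg4 := hnotin x g hx hgn
      have hcomm : Commute g x := (Subgroup.mem_centralizer_singleton_iff.1 hg)
      have h22 : g ^ 2 = x ^ 2 := hinv _ _ (by rw [orderOf_pow' g (by norm_num), hg4]; norm_num)
        (by rw [orderOf_pow' x (by norm_num), hx]; norm_num)
      have hsq : (g * x) ^ 2 = 1 := by
        rw [hcomm.mul_pow, h22, ← pow_add, show 2 + 2 = orderOf x from hx.symm, pow_orderOf_eq_one]
      have hgx : g * x ∈ Subgroup.zpowers x := by
        by_cases h1 : g * x = 1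
        · rw [h1]; exact one_mem _
        · rw [hinv (g * x) (x ^ 2) (orderOf_eq_prime hsq h1)
            (by rw [orderOf_pow' x (by norm_num), hx]; norm_num)]
          exact Subgroup.npow_mem_zpowers x 2
      exact hgn (by simpa using mul_mem hgx (inv_mem (Subgroup.mem_zpowers x)))
    obtain ⟨x, hx⟩ : ∃ x : E, orderOf x = 4 := by
      by_contra! h
      obtain ⟨t, ht⟩ : ∃ t : E, orderOf t = 2 :=
        haveI := Fact.mk Nat.prime_two
        exists_prime_orderOf_dvd_card' 2 (by rw [hcard]; norm_num)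
      have : ∀ g : E, g = 1 ∨ g = t := fun g => by
        by_cases h1 : g = 1
        · exact Or.inl h1
        · exact Or.inr (hinv g t (by by_contra h2; exact h g (h4 g h1 h2)) ht)
      have hle : Nat.card E ≤ 2 := by
        rw [← Nat.card_eq_fintype_card (α := Bool) |>.trans Fintype.card_bool]
        exact Nat.card_le_card_of_surjective (fun e : Bool => if e then (1 : E) else t)
          fun g => by rcases this g with rfl | rfl <;> [exact ⟨true, rfl⟩; exact ⟨false, rfl⟩]
      omega
    obtain ⟨g, hg⟩ := hbig x hx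
    have hg4 := hnotin x g hx hg
    have hcyc : ∀ w : E, orderOf w = 4 → IsCyclic (Subgroup.centralizer ({w} : Set E)) := fun w hw =>
      isCyclic_of_injective (Subgroup.inclusion (hcen w hw)) (Subgroup.inclusion_injective _)
    obtain ⟨c, hc⟩ := isConj_iff.1 (hd.unique x g (fun h => by simp [h] at hx)
      (fun h => by simp [h] at hg4) (hcyc x hx) (hcyc g hg4))
    have hidx : (Subgroup.zpowers x).index = 2 := by
      have := (Subgroup.zpowers x).card_mul_index
      rw [Nat.card_zpowers, hx, hcard] at this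
      omega
    haveI := Subgroup.normal_of_index_eq_two hidx
    exact hg (hc ▸ Subgroup.Normal.conj_mem inferInstance x (Subgroup.mem_zpowers x) c)

/-- The facts about an element of primitive prime order. -/
theorem primitive_facts (hd : Data ρ a b) {r : ℕ} (hr : r.Prime)
    (hrn : r ∣ p ^ Module.finrank (ZMod p) W - 1)
    (hprim : ∀ j, 1 ≤ j → j < Module.finrank (ZMod p) W → ¬ r ∣ p ^ j - 1)
    {y : E} (hy : orderOf y = r) :
    Subgroup.centralizer ({y} : Set E) = Subgroup.zpowers y ∧
      r = Module.finrank (ZMod p) W + 1 ∧ r % 4 ≠ 3 := by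
  classical
  haveI := Fact.mk hr
  set m := Module.finrank (ZMod p) W with hm
  have hm2 : 2 ≤ m := hd.two_le
  have hp1 : 1 < p := (Fact.out : p.Prime).one_lt
  have hrp : ¬ r ∣ p := fun h => by
    have hdvd : r ∣ p ^ m := h.trans (dvd_pow_self p (by omega))
    have : r ∣ 1 := by
      have h' := Nat.dvd_sub hdvd hrn
      rwa [Nat.sub_sub_self (Nat.one_le_pow _ _ (by omega))] at h'
    exact hr.not_dvd_one this
  set f : Module.End (ZMod p) W := (ρ y).toLinearMap with hf
  have hfpow : ∀ (i : ℕ) (w : W), (f ^ i) w = ρ (y ^ i) w := by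
    intro i
    induction i with
    | zero => intro w; simp
    | succ i ih => intro w; rw [pow_succ, Module.End.mul_apply, ih, pow_succ, map_mul,
        LinearEquiv.mul_apply]; rfl
  have hfr : ∀ w : W, (f ^ r) w = w := fun w => by
    rw [hfpow, ← hy, pow_orderOf_eq_one, map_one]; rfl
  -- congruence for invariant subspaces
  have hcong : ∀ U : Submodule (ZMod p) W, (∀ u ∈ U, f u ∈ U) →
      p ^ Module.finrank (ZMod p) U ≡
        Nat.card {u : U // f u = (u : W)} [MOD r] := by
    intro U hU
    haveI : Fintype U := Fintype.ofFinite _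
    let s : Function.End U := fun u => ⟨f u, hU u u.2⟩
    have hs : ∀ (i : ℕ) (u : U), ((s ^ i) u : W) = (f ^ i) u := by
      intro i
      induction i with
      | zero => intro u; rfl
      | succ i ih => intro u; rw [pow_succ, pow_succ]; exact ih (s u)
    have h := Equiv.Perm.card_fixedPoints_modEq (α := U) (f := s) (p := r) (n := 1)
      (funext fun u => Subtype.ext (by rw [pow_one, hs, hfr]; rfl))
    rw [← card_submodule, Nat.card_eq_fintype_card]
    refine h.trans (congrArg (· % r) ?_)
    rw [← Nat.card_eq_fintype_card]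
    exact Nat.card_congr (Equiv.subtypeEquivRight fun u =>
      ⟨fun e => congrArg Subtype.val e, fun e => Subtype.ext e⟩)
  have hone : ∀ d, d ≤ m → p ^ d ≡ 1 [MOD r] → d = 0 ∨ d = m := by
    intro d hdm h
    by_contra hcon
    exact hprim d (by omega) (by omega)
      ((Nat.modEq_iff_dvd' (Nat.one_le_pow _ _ (by omega))).1 h.symm)
  have hpm : p ^ m ≡ 1 [MOD r] :=
    ((Nat.modEq_iff_dvd' (Nat.one_le_pow _ _ (by omega))).2 hrn).symm
  have hnofix : ∀ w : W, f w = w → w = 0 := by
    let K : Submodule (ZMod p) W := LinearMap.ker (f - 1)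
    have hK : ∀ w, w ∈ K ↔ f w = w := fun w => by simp [K, sub_eq_zero]
    have h := hcong ⊤ (fun u _ => trivial)
    rw [finrank_top, ← hm] at h
    have hc : Nat.card {u : (⊤ : Submodule (ZMod p) W) // f u = (u : W)} =
        p ^ Module.finrank (ZMod p) K := by
      rw [← card_submodule]
      exact Nat.card_congr
        ⟨fun u => ⟨u.1.1, (hK _).2 u.2⟩, fun u => ⟨⟨u.1, trivial⟩, (hK _).1 u.2⟩,
          fun u => rfl, fun u => rfl⟩
    rw [hc] at h
    rcases hone _ (Submodule.finrank_le K) (h.symm.trans hpm) with h0 | h0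
    · intro w hw
      have := (hK w).2 hw
      rwa [Submodule.finrank_eq_zero.1 h0, Submodule.mem_bot] at this
    · exfalso
      have htop : K = ⊤ := Submodule.eq_top_of_finrank_eq (h0.trans hm)
      have hy1 : y = 1 := hd.inj (LinearEquiv.ext fun w => by
        rw [map_one]; exact (hK w).1 (htop ▸ trivial))
      rw [hy1, orderOf_one] at hy
      exact hr.ne_one hy.symm
  have hirr : ∀ U : Submodule (ZMod p) W, (∀ u ∈ U, f u ∈ U) → U = ⊥ ∨ U = ⊤ := by
    intro U hU
    have h := hcong U hU
    have hc : Nat.card {u : U // f u = (u : W)} = 1 := by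
      refine Nat.card_eq_one_iff_unique.2 ⟨⟨fun u v => Subtype.ext (Subtype.ext ?_)⟩, ⟨⟨0, by simp⟩⟩⟩
      rw [hnofix _ u.2, hnofix _ v.2]
    rw [hc] at h
    exact (hone _ (Submodule.finrank_le U) h).imp Submodule.finrank_eq_zero.1
      (fun e => Submodule.eq_top_of_finrank_eq (e.trans hm))
  -- the commutant is a finite field
  let L := Subalgebra.centralizer (ZMod p) ({f} : Set (Module.End (ZMod p) W))
  haveI : Finite (Module.End (ZMod p) W) :=
    Finite.of_injective (fun g : Module.End (ZMod p) W => (g : W → W)) DFunLike.coe_injective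
  haveI : Nontrivial W := Module.nontrivial_of_finrank_pos (R := ZMod p) (by omega)
  haveI : NoZeroDivisors L := ⟨fun {g h} e => by
    by_cases hg : g = 0
    · exact Or.inl hg
    right
    have hgc : f * (g : Module.End (ZMod p) W) = g * f :=
      Subalgebra.mem_centralizer_iff (ZMod p) |>.1 g.2 f rfl
    have hinv : ∀ u ∈ LinearMap.ker (g : Module.End (ZMod p) W), f u ∈
        LinearMap.ker (g : Module.End (ZMod p) W) := by
      intro u hu
      rw [LinearMap.mem_ker] at hu ⊢
      rw [← Module.End.mul_apply, ← hgc, Module.End.mul_apply, hu, map_zero]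
    rcases hirr _ hinv with hk | hk
    · refine Subtype.ext (LinearMap.ext fun w => ?_)
      have : (g : Module.End (ZMod p) W) ((h : Module.End (ZMod p) W) w) = 0 :=
        LinearMap.congr_fun (congrArg Subtype.val e) w
      exact LinearMap.ker_eq_bot'.1 hk _ this
    · exact absurd (Subtype.ext (LinearMap.ker_eq_top.1 hk)) hg⟩
  haveI : IsDomain L := NoZeroDivisors.to_isDomain L
  letI instL : CommRing L :=
    { (inferInstance : Ring L) with mul_comm := (Finite.isDomain_to_isField L).mul_comm }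
  have hmemL : ∀ z : E, Commute z y → (ρ z).toLinearMap ∈ L := fun z hz =>
    (Subalgebra.mem_centralizer_iff (ZMod p)).2 fun g hg => by
      rw [Set.mem_singleton_iff.1 hg]
      refine LinearMap.ext fun w => ?_
      change ρ y (ρ z w) = ρ z (ρ y w)
      rw [← LinearEquiv.mul_apply, ← map_mul, ← LinearEquiv.mul_apply, ← map_mul, hz.eq]
  -- the centraliser is cyclic
  have hcyc : IsCyclic (Subgroup.centralizer ({y} : Set E)) := by
    let φ : Subgroup.centralizer ({y} : Set E) →* L :=
      { toFun := fun z => ⟨(ρ z.1).toLinearMap,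
          hmemL z.1 (Subgroup.mem_centralizer_singleton_iff.1 z.2)⟩
        map_one' := Subtype.ext (by simp; rfl)
        map_mul' := fun z z' => Subtype.ext (by simp) }
    refine isCyclic_of_injective_ringHom φ fun z z' e => Subtype.ext (hd.inj ?_)
    exact LinearEquiv.toLinearMap_injective (congrArg Subtype.val e)
  have hy1 : y ≠ 1 := fun h => by rw [h, orderOf_one] at hy; exact hr.ne_one hy.symm
  have hC : Subgroup.centralizer ({y} : Set E) = Subgroup.zpowers y := by
    obtain ⟨w, hw⟩ := hcyc.exists_generator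
    have hyC : y ∈ Subgroup.centralizer ({y} : Set E) :=
      Subgroup.mem_centralizer_singleton_iff.2 rfl
    have hgen : ∀ z ∈ Subgroup.centralizer ({y} : Set E), z ∈ Subgroup.zpowers (w : E) := by
      intro z hz
      obtain ⟨i, hi⟩ := Subgroup.mem_zpowers_iff.1 (hw ⟨z, hz⟩)
      exact Subgroup.mem_zpowers_iff.2 ⟨i, by rw [← Subgroup.coe_zpow, hi]⟩
    have hwC : Subgroup.centralizer ({(w : E)} : Set E) ≤ Subgroup.centralizer ({y} : Set E) := by
      intro z hz
      obtain ⟨i, hi⟩ := Subgroup.mem_zpowers_iff.1 (hgen y hyC)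
      refine Subgroup.mem_centralizer_singleton_iff.2 ?_
      rw [← hi]
      exact (show Commute z (w : E) from Subgroup.mem_centralizer_singleton_iff.1 hz).zpow_right i
    have hw1 : (w : E) ≠ 1 := fun h => by
      have h2 := hgen y hyC
      rw [h, Subgroup.zpowers_one_eq_bot, Subgroup.mem_bot] at h2
      exact hy1 h2
    haveI := hcyc
    have hcycw : IsCyclic (Subgroup.centralizer ({(w : E)} : Set E)) :=
      isCyclic_of_injective (Subgroup.inclusion hwC) (Subgroup.inclusion_injective _)
    obtain ⟨g, hg⟩ := isConj_iff.1 (hd.unique y w hy1 hw1 hcyc hcycw)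
    have hwo : orderOf (w : E) = r := by
      rw [← hg, ← hy, ← MulAut.conj_apply, MulEquiv.orderOf_eq]
    refine (Subgroup.eq_of_le_of_card_ge (Subgroup.zpowers_le.2 hyC) ?_).symm
    calc Nat.card (Subgroup.centralizer ({y} : Set E))
        ≤ Nat.card (Subgroup.zpowers (w : E)) := Subgroup.card_le_of_le (fun z hz => hgen z hz)
      _ = _ := by rw [Nat.card_zpowers, Nat.card_zpowers, hwo, hy]
  have hconj : ∀ i : ℕ, ¬ orderOf y ∣ i → IsConj y (y ^ i) := by
    intro i hi
    have hyi : y ^ i ≠ 1 := fun h => hi (orderOf_dvd_of_pow_eq_one h)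
    have hle : Subgroup.centralizer ({y ^ i} : Set E) ≤ Subgroup.centralizer ({y} : Set E) := by
      intro z hz
      rw [hy] at hi
      obtain ⟨j, hj⟩ := exists_pow_eq_self_of_coprime (x := y) (n := i) (by
        rw [hy]; exact (hr.coprime_iff_not_dvd.2 hi).symm)
      refine Subgroup.mem_centralizer_singleton_iff.2 ?_
      rw [← hj]
      exact (show Commute z (y ^ i) from Subgroup.mem_centralizer_singleton_iff.1 hz).pow_right j
    haveI := hcyc
    exact hd.unique y (y ^ i) hy1 hyi hcyc
      (isCyclic_of_injective (Subgroup.inclusion hle) (Subgroup.inclusion_injective _))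
  refine ⟨hC, ?_, ?_⟩
  · apply le_antisymm
    · -- distinct conjugate powers are roots of one polynomial of degree `m`
      have hroot : ∀ i : ℕ, ¬ r ∣ i → aeval (f ^ i) f.charpoly = 0 := by
        intro i hi
        obtain ⟨g, hg⟩ := isConj_iff.1 (hconj i (by rwa [hy]))
        have e : f ^ i = (ρ g).conj f := LinearMap.ext fun w => by
          rw [hfpow, LinearEquiv.conj_apply_apply, ← hg, map_mul, map_mul, map_inv]
          rfl
        have := LinearEquiv.charpoly_conj (ρ g) f
        rw [← this, ← e]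
        exact LinearMap.aeval_self_charpoly _
      have hfL : f ∈ L := hmemL y (Commute.refl y)
      let q := (f.charpoly.map (algebraMap (ZMod p) L)).roots.toFinset
      let S := (Finset.Ico 1 r).image fun i => ((⟨f, hfL⟩ : L) ^ i)
      have hne : f.charpoly.map (algebraMap (ZMod p) L) ≠ 0 :=
        ((f.charpoly_monic).map _).ne_zero
      have hsub : S ⊆ q := by
        intro l hl
        obtain ⟨i, hi, rfl⟩ := Finset.mem_image.1 hl
        rw [Finset.mem_Ico] at hi
        rw [Multiset.mem_toFinset, mem_roots hne, IsRoot, eval_map_algebraMap]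
        apply Subtype.ext
        have := hroot i (Nat.not_dvd_of_pos_of_lt (by omega) hi.2)
        rw [← Subalgebra.coe_val, ← aeval_algHom_apply]
        simpa using this
      have hcardS : S.card = r - 1 := by
        rw [Finset.card_image_of_injOn, Nat.card_Ico]
        intro i hi j hj e
        simp only [Finset.coe_Ico, Set.mem_Ico] at hi hj
        have e' : ρ (y ^ i) = ρ (y ^ j) := LinearEquiv.ext fun w => by
          rw [← hfpow, ← hfpow]
          have := congrArg Subtype.val e
          simp only [SubmonoidClass.coe_pow] at this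
          rw [this]
        exact pow_injOn_Iio_orderOf (by simp [hy, hi.2]) (by simp [hy, hj.2]) (hd.inj e')
      have h1 := Finset.card_le_card hsub
      have h2 := Multiset.toFinset_card_le (f.charpoly.map (algebraMap (ZMod p) L)).roots
      have h3 := card_roots' (f.charpoly.map (algebraMap (ZMod p) L))
      have h4 : (f.charpoly.map (algebraMap (ZMod p) L)).natDegree = m := by
        rw [(f.charpoly_monic).natDegree_map, f.charpoly_natDegree]
      rw [hcardS] at h1
      change r ≤ m + 1
      simp only [q] at h1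
      omega
    · -- Fermat
      by_contra hlt
      push Not at hlt
      have h1 : 1 ≤ r - 1 := by have := hr.two_le; omega
      refine hprim (r - 1) h1 (by omega) ?_
      rw [← Nat.modEq_iff_dvd' (Nat.one_le_pow _ _ (by omega))]
      have := Nat.ModEq.pow_totient ((hr.coprime_iff_not_dvd.2 hrp).symm)
      rw [Nat.totient_prime hr] at this
      exact this.symm
  · -- `r` is a sum of two squares
    obtain ⟨z, hz⟩ := hd.integral y (hy ▸ hr) hC hconj
    rw [hy] at hz
    have hdiv : a ^ 2 + b ^ 2 ∣ r * b ^ 2 := by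
      have : ((a ^ 2 + b ^ 2 : ℕ) : ℤ) ∣ ((r * b ^ 2 : ℕ) : ℤ) :=
        ⟨z, by push_cast; linear_combination -hz⟩
      exact_mod_cast this
    obtain ⟨g, u, w, hg, huw, hau, hbw⟩ :=
      Nat.exists_coprime' (Nat.gcd_pos_of_pos_left b hd.pos_left)
    have hu : 0 < u := Nat.pos_of_ne_zero fun h => by
      have := hd.pos_left; simp [hau, h] at this
    have hw : 0 < w := Nat.pos_of_ne_zero fun h => by
      have := hd.pos_right; simp [hbw, h] at this
    have hdiv' : u ^ 2 + w ^ 2 ∣ r * w ^ 2 := by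
      rw [hau, hbw, show (u * g) ^ 2 + (w * g) ^ 2 = (u ^ 2 + w ^ 2) * g ^ 2 by ring,
        show r * (w * g) ^ 2 = r * w ^ 2 * g ^ 2 by ring] at hdiv
      exact Nat.dvd_of_mul_dvd_mul_right (pow_pos hg 2) hdiv
    have hcop : Nat.Coprime (u ^ 2 + w ^ 2) (w ^ 2) := by
      rw [Nat.coprime_add_self_left]
      exact huw.pow 2 2
    have hur : u ^ 2 + w ^ 2 = r := by
      rcases (Nat.dvd_prime hr).1 (hcop.dvd_of_dvd_mul_right hdiv') with h | h
      · have := Nat.pow_pos (n := 2) hu; have := Nat.pow_pos (n := 2) hw; omega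
      · exact h
    intro h4
    exact mod_four_ne_three one_ne_zero (by rw [mul_one]; exact hur.symm)
      (fun q hq _ => by haveI := Fact.mk hq; simp) h4

theorem primitive_sq (hd : Data ρ a b) {r : ℕ} (hr : r.Prime)
    (hrn : r ∣ p ^ Module.finrank (ZMod p) W - 1)
    (hprim : ∀ j, 1 ≤ j → j < Module.finrank (ZMod p) W → ¬ r ∣ p ^ j - 1) :
    ¬ r ^ 2 ∣ Nat.card E ∧ r = Module.finrank (ZMod p) W + 1 ∧ r % 4 ≠ 3 ∧
      ∃ y : E, orderOf y = r ∧ Subgroup.centralizer ({y} : Set E) = Subgroup.zpowers y := by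
  haveI := Fact.mk hr
  obtain ⟨P⟩ : Nonempty (Sylow r E) := inferInstance
  have hPne : r ∣ Nat.card (P : Subgroup E) :=
    P.dvd_card_of_dvd_card (hrn.trans hd.dvd_card)
  haveI : Nontrivial (P : Subgroup E) :=
    Finite.one_lt_card_iff_nontrivial.1 (lt_of_lt_of_le hr.one_lt (Nat.le_of_dvd Nat.card_pos hPne))
  haveI := P.2.center_nontrivial
  obtain ⟨n, hn⟩ := IsPGroup.iff_card.1 (P.2.to_subgroup (Subgroup.center (P : Subgroup E)))
  have hn0 : n ≠ 0 := fun h => by
    rw [h, pow_zero] at hn
    exact absurd hn (ne_of_gt Finite.one_lt_card)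
  obtain ⟨z, hz⟩ := exists_prime_orderOf_dvd_card' (G := Subgroup.center (P : Subgroup E)) r
    (hn ▸ dvd_pow_self r hn0)
  have hy : orderOf ((z.1 : (P : Subgroup E)) : E) = r := by
    rw [Subgroup.orderOf_coe, Subgroup.orderOf_coe, hz]
  obtain ⟨hC, hr1, hr4⟩ := hd.primitive_facts hr hrn hprim hy
  refine ⟨fun h2 => ?_, hr1, hr4, _, hy, hC⟩
  have hle : (P : Subgroup E) ≤ Subgroup.zpowers ((z.1 : (P : Subgroup E)) : E) := by
    intro g hg
    rw [← hC, Subgroup.mem_centralizer_singleton_iff]
    exact congrArg Subtype.val (Subgroup.mem_center_iff.1 z.2 ⟨g, hg⟩)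
  have h := Subgroup.card_le_of_le hle
  rw [Nat.card_zpowers, hy] at h
  have h3 : r ^ 2 ≤ Nat.card (P : Subgroup E) := Nat.le_of_dvd Nat.card_pos (P.pow_dvd_card_of_pow_dvd_card h2)
  have := hr.two_le
  nlinarith

theorem not_three_four (hd : Data ρ a b) (hm : Module.finrank (ZMod p) W = 4) (hp : p = 3) :
    False := by
  classical
  subst hp
  obtain ⟨-, -, -, y, hy, hC⟩ := hd.primitive_sq (r := 5) (by norm_num) (by rw [hm]; norm_num)
    (fun j h1 h2 => by rw [hm] at h2; interval_cases j <;> norm_num)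
  haveI := Fact.mk Nat.prime_two
  obtain ⟨P⟩ : Nonempty (Sylow 2 E) := inferInstance
  have h16 : 2 ^ 4 ∣ Nat.card E := (show 2 ^ 4 ∣ 3 ^ Module.finrank (ZMod 3) W - 1 by
    rw [hm]; norm_num).trans hd.dvd_card
  have h16P : 2 ^ 4 ∣ Nat.card (P : Subgroup E) := P.pow_dvd_card_of_pow_dvd_card h16
  haveI : Nontrivial (P : Subgroup E) :=
    Finite.one_lt_card_iff_nontrivial.1
      (lt_of_lt_of_le (by norm_num) (Nat.le_of_dvd Nat.card_pos h16P))
  haveI := P.2.center_nontrivial
  obtain ⟨n, hn⟩ := IsPGroup.iff_card.1 (P.2.to_subgroup (Subgroup.center (P : Subgroup E)))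
  have hn0 : n ≠ 0 := fun h => by
    rw [h, pow_zero] at hn
    exact absurd hn (ne_of_gt Finite.one_lt_card)
  obtain ⟨z, hz⟩ := exists_prime_orderOf_dvd_card' (G := Subgroup.center (P : Subgroup E)) 2
    (hn ▸ dvd_pow_self 2 hn0)
  set t : E := ((z.1 : (P : Subgroup E)) : E) with ht
  have hto : orderOf t = 2 := by rw [ht, Subgroup.orderOf_coe, Subgroup.orderOf_coe, hz]
  let K : Submodule (ZMod 3) W := LinearMap.ker ((ρ t).toLinearMap - 1)
  have hK : ∀ w, w ∈ K ↔ ρ t w = w := fun w => by simp [K, sub_eq_zero]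
  have htt : ∀ w, ρ t (ρ t w) = w := fun w => by
    rw [← LinearEquiv.mul_apply, ← map_mul, ← pow_two, ← hto, pow_orderOf_eq_one, map_one]; rfl
  have hKne : K ≠ ⊥ := by
    intro hbot
    have hneg : ∀ w, ρ t w = -w := fun w => by
      have hmem : w + ρ t w ∈ K := (hK _).2 (by rw [map_add, htt, add_comm])
      rw [hbot, Submodule.mem_bot] at hmem
      exact eq_neg_of_add_eq_zero_right hmem
    have htC : t ∈ Subgroup.centralizer ({y} : Set E) := by
      refine Subgroup.mem_centralizer_singleton_iff.2 (hd.inj (LinearEquiv.ext fun w => ?_))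
      rw [map_mul, map_mul, LinearEquiv.mul_apply, LinearEquiv.mul_apply, hneg, hneg, map_neg]
    rw [hC] at htC
    have := orderOf_dvd_of_mem_zpowers htC
    rw [hto, hy] at this
    norm_num at this
  have hKtop : K ≠ ⊤ := fun h => by
    have : t = 1 := hd.inj (LinearEquiv.ext fun w => by rw [map_one]; exact (hK w).1 (h ▸ trivial))
    rw [this, orderOf_one] at hto
    omega
  have hPK : ∀ g ∈ (P : Subgroup E), ∀ w ∈ K, ρ g w ∈ K := by
    intro g hg w hw
    rw [hK] at hw ⊢
    have hc : t * g = g * t := (congrArg Subtype.val (Subgroup.mem_center_iff.1 z.2 ⟨g, hg⟩)).symm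
    rw [← LinearEquiv.mul_apply, ← map_mul, hc, map_mul, LinearEquiv.mul_apply, hw]
  letI : MulAction (P : Subgroup E) {v : K // v ≠ 0} :=
    { smul := fun g v => ⟨⟨ρ g.1 v.1.1, hPK g.1 g.2 _ v.1.2⟩, fun h => v.2 (Subtype.ext
        ((ρ g.1).map_eq_zero_iff.1 (congrArg Subtype.val h)))⟩
      one_smul := fun v => Subtype.ext (Subtype.ext (by
        change ρ ((1 : (P : Subgroup E)) : E) v.1.1 = _; simp))
      mul_smul := fun g h v => Subtype.ext (Subtype.ext (by
        change ρ ((g * h : (P : Subgroup E)) : E) v.1.1 = ρ g.1 (ρ h.1 v.1.1); simp)) }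
  have horb : ∀ v : {v : K // v ≠ 0}, 2 ^ 4 ∣ Nat.card (MulAction.orbit (P : Subgroup E) v) := by
    intro v
    obtain ⟨c, hc⟩ := hd.stab_sq v.1.1 (fun h => v.2 (Subtype.ext h))
    have hE := hd.card_eq_mul (v := v.1.1) (fun h => v.2 (Subtype.ext h))
    rw [hm] at hE
    let S : Subgroup E :=
      { carrier := {g | ρ g v.1.1 = v.1.1}
        mul_mem' := fun {g h} hg hh => by
          change ρ (g * h) v.1.1 = _; rw [map_mul, LinearEquiv.mul_apply, hh, hg]
        one_mem' := by simp
        inv_mem' := fun {g} hg => by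
          change ρ g⁻¹ v.1.1 = _
          rw [map_inv]; exact (LinearEquiv.symm_apply_eq _).2 hg.symm }
    have hS : Nat.card S = Nat.card {g : E // ρ g v.1.1 = v.1.1} := rfl
    have hst : Nat.card (MulAction.stabilizer (P : Subgroup E) v) ∣ Nat.card S := by
      refine Subgroup.card_dvd_of_injective
        ((((P : Subgroup E).subtype).comp (MulAction.stabilizer _ v).subtype).codRestrict S
          fun g => ?_) fun g h e => Subtype.ext (Subtype.ext (congrArg (fun x : S => (x : E)) e))
      exact congrArg (fun w : {v : K // v ≠ 0} => w.1.1) g.2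
    have hmul : Nat.card (MulAction.orbit (P : Subgroup E) v) *
        Nat.card (MulAction.stabilizer (P : Subgroup E) v) = Nat.card (P : Subgroup E) := by
      rw [← Nat.card_prod]
      exact Nat.card_congr (MulAction.orbitProdStabilizerEquivGroup _ v)
    obtain ⟨e, he⟩ := IsPGroup.iff_card.1 (P.2.to_subgroup (MulAction.stabilizer (P : Subgroup E) v))
    have hdvd : 2 ^ (4 + e) ∣ Nat.card E := by
      rw [hE, pow_add, ← hS]
      exact mul_dvd_mul (by norm_num) (he ▸ hst)
    have h1 := P.pow_dvd_card_of_pow_dvd_card hdvd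
    rw [← hmul, he, pow_add] at h1
    exact Nat.dvd_of_mul_dvd_mul_right (by positivity) h1
  have h := dvd_orbit_card horb
  rw [card_nonzero] at h
  have h1 : Module.finrank (ZMod 3) K ≠ 0 := fun h0 => hKne (Submodule.finrank_eq_zero.1 h0)
  have h2 : Module.finrank (ZMod 3) K < 4 := hm ▸ Submodule.finrank_lt hKtop
  generalize Module.finrank (ZMod 3) K = d at h h1 h2
  interval_cases d <;> first | omega | norm_num at h

/-- Lemma L is contradictory in dimension at least two. -/
theorem absurd' (hd : Data ρ a b) : False := by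
  have hpp : p.Prime := Fact.out
  have hp2 : p ≠ 2 := hd.ne_two
  have hp3 : 3 ≤ p := by have := hpp.two_le; omega
  obtain ⟨v, hv⟩ := hd.exists_ne_zero
  by_cases hm : Module.finrank (ZMod p) W = 2
  · by_cases hpow : ∃ k, p + 1 = 2 ^ k
    · obtain ⟨k, hk⟩ := hpow
      rcases lt_or_ge k 3 with h | h
      · interval_cases k <;> first | omega | exact hd.not_three_two hm (by omega)
      · exact hd.not_mersenne hm h hk
    · obtain ⟨r, hr, hr2, hrp⟩ : ∃ r, r.Prime ∧ r ≠ 2 ∧ r ∣ p + 1 := by
        by_contra! h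
        exact hpow ⟨_, Nat.eq_prime_pow_of_unique_prime_dvd (by omega)
          fun {d} hd' hdp => by_contra fun hne => h d hd' hne hdp⟩
      have hrn : r ∣ p ^ Module.finrank (ZMod p) W - 1 := by
        rw [hm, show p ^ 2 - 1 = (p + 1) * (p - 1) by simpa using Nat.sq_sub_sq p 1]
        exact hrp.mul_right _
      obtain ⟨-, h3, h4, -⟩ := hd.primitive_sq hr hrn (fun j h1 h2 => by
        rw [hm] at h2
        obtain rfl : j = 1 := by omega
        intro hd1
        have : r ∣ 2 := by
          have := Nat.dvd_sub hrp hd1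
          rwa [pow_one, show p + 1 - (p - 1) = 2 by omega] at this
        exact hr2 ((Nat.prime_dvd_prime_iff_eq hr Nat.prime_two).1 this))
      omega
  have hm3 : 3 ≤ Module.finrank (ZMod p) W := by have := hd.two_le; omega
  by_cases hx : (p, Module.finrank (ZMod p) W) ∈ CfsgLib.Zsig.exceptions
  · have hcase : (p = 3 ∧ Module.finrank (ZMod p) W = 4) ∨
        ((p = 3 ∨ p = 5) ∧ Module.finrank (ZMod p) W = 6) ∨ ¬ p.Prime := by
      simp only [CfsgLib.Zsig.exceptions, List.mem_cons, Prod.mk.injEq, List.not_mem_nil,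
        or_false] at hx
      rcases hx with h | h | h | h | h | h | h | h | h | h | h | h | h <;>
        first
          | omega
          | (right; right; rw [h.1]; norm_num)
    rcases hcase with ⟨h1, h2⟩ | ⟨h1, h2⟩ | h
    · exact hd.not_three_four h2 h1
    · have h7 : 7 ∣ p ^ Module.finrank (ZMod p) W - 1 := by
        rw [h2]; rcases h1 with rfl | rfl <;> norm_num
      obtain ⟨-, -, h4, -⟩ := hd.primitive_sq (r := 7) (by norm_num) h7 (fun j hj1 hj2 => by
        rw [h2] at hj2
        rcases h1 with rfl | rfl <;> interval_cases j <;> norm_num)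
      omega
    · exact h hpp
  · obtain ⟨k, hk, hcop, hbig⟩ :=
      CfsgLib.Zsig.exists_primitive_part hpp.two_le hm3 hx
    have key : ∀ r : ℕ, r.Prime → r ∣ k →
        ¬ r ^ 2 ∣ Nat.card E ∧ r = Module.finrank (ZMod p) W + 1 := by
      intro r hr hrk
      obtain ⟨h1, h2, -, -⟩ := hd.primitive_sq hr (hrk.trans hk) (fun j hj1 hj2 hdj =>
        hr.not_dvd_one ((hcop j hj1 hj2) ▸ Nat.dvd_gcd hrk hdj))
      exact ⟨h1, h2⟩
    have hpow := Nat.eq_prime_pow_of_unique_prime_dvd (p := Module.finrank (ZMod p) W + 1)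
      (n := k) (by omega) (fun {d} hd' hdk => (key d hd' hdk).2)
    obtain ⟨q, hq, hqk⟩ := Nat.exists_prime_and_dvd (n := k) (by omega)
    obtain ⟨hsq, hq1⟩ := key q hq hqk
    have hkE : k ∣ Nat.card E := hk.trans hd.dvd_card
    rw [hpow, ← hq1] at hkE hbig
    rcases lt_or_ge k.primeFactorsList.length 2 with h | h
    · have : q ^ k.primeFactorsList.length ≤ q ^ 1 := Nat.pow_le_pow_right hq.pos (by omega)
      rw [pow_one] at this
      omega
    · exact hsq ((pow_dvd_pow q h).trans hkE)

end Data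

end Linear

end CfsgLib.ThreeNormal
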