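import Cfsg.Agent.Char.NormalSub
import Cfsg.Agent.PPrimeCount.Ext

/-!
# An invariant character with exactly two characters above it

If exactly two irreducible characters of `X` lie over an invariant character of a normal subgroup
`C`, then each is supported, outside `C`, on one class of `X ⧸ C` with cyclic centraliser.
-/

set_option autoImplicit false
set_option linter.style.haveILetI false

namespace CfsgLib.ThreeNormal

open CfsgLib.Char Finset
open scoped ComplexConjugate

universe u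

/-- A unique character over an invariant character forces a square index. -/
theorem sq_index_of_unique {G : Type u} [Group G] [Finite G] {N : Subgroup G} [N.Normal]
    {θ : N → ℂ} (hθ : Cfsg.IsIrrCharacter N θ) (hI : inertia θ = ⊤)
    (huniq : ∀ χ ψ : G → ℂ, Cfsg.IsIrrCharacter G χ → Cfsg.IsIrrCharacter G ψ →
      (∀ _ : Fintype N, Cfsg.classInner (fun n : N => χ n) θ ≠ 0) →
      (∀ _ : Fintype N, Cfsg.classInner (fun n : N => ψ n) θ ≠ 0) → χ = ψ) :
    ∃ e : ℕ, N.index = e ^ 2 := by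
  classical
  haveI := Fintype.ofFinite G
  haveI : Fintype N := Fintype.ofFinite N
  have hne : Cfsg.indFun N θ ≠ 0 := fun h0 => by
    have := congrFun h0 1
    rw [indFun_one, Pi.zero_apply, mul_eq_zero] at this
    exact this.elim (by exact_mod_cast N.index_ne_zero_of_finite)
      (IsIrrCharacter.apply_one_ne_zero hθ)
  obtain ⟨χ, hχ, hχc⟩ :=
    IsCharacter.exists_constituent (IsCharacter.indFun (IsIrrCharacter.isCharacter hθ)) hne
  have hcon := (classInner_indFun_ne_zero_iff (IsIrrCharacter.isClassFunction hχ) θ).1 hχc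
  obtain ⟨e, -, he⟩ := ((fully_ramified_tfae hχ hθ hcon).2.2 ⟨hI, fun ψ hψ hψc => by
    refine huniq ψ χ hψ hχ (fun i => ?_) (fun i => ?_)
    · convert (classInner_indFun_ne_zero_iff (IsIrrCharacter.isClassFunction hψ) θ).1 hψc
    · convert hcon⟩)
  exact ⟨e, he.symm⟩

/-- Characters not over an extended character are orthogonal to it on every coset. -/
theorem sum_coset_eq_zero {G : Type u} [Group G] [Fintype G] {N : Subgroup G} [N.Normal]
    [Fintype N] {η : G → ℂ} (hη : Cfsg.IsIrrCharacter G η)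
    (hres : Cfsg.IsIrrCharacter N (fun n : N => η n)) {Φ : G → ℂ}
    (hΦ : Cfsg.IsCharacter G Φ)
    (h : Cfsg.classInner (fun n : N => Φ n) (fun n : N => η n) = 0) (g : G) :
    ∑ n : N, Φ ((n : G) * g) * conj (η ((n : G) * g)) = 0 := by
  revert h
  have key : ∀ {F : G → ℂ}, Cfsg.IsCharacter G F → ∃ k : ℕ,
      Cfsg.classInner (fun n : N => F n) (fun n : N => η n) = k := fun {F} hF =>
    IsCharacter.exists_classInner_eq_natCast (IsCharacter.restrict hF N) hres
  suffices Cfsg.IsCharacter G Φ ∧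
      (Cfsg.classInner (fun n : N => Φ n) (fun n : N => η n) = 0 →
        ∑ n : N, Φ ((n : G) * g) * conj (η ((n : G) * g)) = 0) from this.2
  refine IsCharacter.induction_irr (P := fun F => Cfsg.IsCharacter G F ∧
    (Cfsg.classInner (fun n : N => F n) (fun n : N => η n) = 0 →
      ∑ n : N, F ((n : G) * g) * conj (η ((n : G) * g)) = 0))
    ⟨isCharacter_zero, fun _ => by simp⟩ ?_ ?_ hΦ
  · rintro χ ψ ⟨hχ, hχ0⟩ ⟨hψ, hψ0⟩
    refine ⟨IsCharacter.add hχ hψ, fun h0 => ?_⟩
    obtain ⟨k, hk⟩ := key hχ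
    obtain ⟨l, hl⟩ := key hψ
    change Cfsg.classInner ((fun n : N => χ n) + fun n : N => ψ n) _ = 0 at h0
    rw [classInner_add_left, hk, hl, ← Nat.cast_add, Nat.cast_eq_zero, Nat.add_eq_zero_iff] at h0
    simp only [Pi.add_apply, add_mul, sum_add_distrib]
    rw [hχ0 (by rw [hk, h0.1, Nat.cast_zero]), hψ0 (by rw [hl, h0.2, Nat.cast_zero]), add_zero]
  · refine fun χ hχ => ⟨IsIrrCharacter.isCharacter hχ, fun h0 => ?_⟩
    have := congrFun ((cosetAverage_spec hη hres hχ).2.1 h0) g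
    simp only [Pi.zero_apply, mul_eq_zero, inv_eq_zero] at this
    exact this.resolve_left (by exact_mod_cast Nat.card_pos.ne')

variable {X : Type u} [Group X] [Fintype X] {C : Subgroup X} [C.Normal] [Fintype C]

/-- Exactly two irreducible characters over an invariant character. -/
structure TwoOver (θ : C → ℂ) (χ₁ χ₂ : X → ℂ) : Prop where
  irr : Cfsg.IsIrrCharacter C θ
  inv : inertia θ = ⊤
  irr₁ : Cfsg.IsIrrCharacter X χ₁
  irr₂ : Cfsg.IsIrrCharacter X χ₂
  ne : χ₁ ≠ χ₂
  over₁ : Cfsg.classInner (fun c : C => χ₁ c) θ ≠ 0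
  over₂ : Cfsg.classInner (fun c : C => χ₂ c) θ ≠ 0
  only : ∀ χ, Cfsg.IsIrrCharacter X χ → Cfsg.classInner (fun c : C => χ c) θ ≠ 0 →
    χ = χ₁ ∨ χ = χ₂

namespace TwoOver

variable {θ : C → ℂ} {χ₁ χ₂ : X → ℂ}

theorem exists_mult (h : TwoOver θ χ₁ χ₂) :
    ∃ a b : ℕ, 0 < a ∧ 0 < b ∧ Nat.card (X ⧸ C) = a ^ 2 + b ^ 2 ∧
      (fun c : C => χ₁ c) = (a : ℂ) • θ ∧ (fun c : C => χ₂ c) = (b : ℂ) • θ ∧
      Cfsg.indFun C θ = (a : ℂ) • χ₁ + (b : ℂ) • χ₂ := by
  classical
  obtain ⟨a, ha⟩ := IsCharacter.exists_classInner_eq_natCast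
    (IsCharacter.restrict (IsIrrCharacter.isCharacter h.irr₁) C) h.irr
  obtain ⟨b, hb⟩ := IsCharacter.exists_classInner_eq_natCast
    (IsCharacter.restrict (IsIrrCharacter.isCharacter h.irr₂) C) h.irr
  have hI₁ : Cfsg.classInner (Cfsg.indFun C θ) χ₁ = a := by
    rw [classInner_indFun θ (IsIrrCharacter.isClassFunction h.irr₁), ← classInner_conj, ha,
      Complex.conj_natCast]
  have hI₂ : Cfsg.classInner (Cfsg.indFun C θ) χ₂ = b := by
    rw [classInner_indFun θ (IsIrrCharacter.isClassFunction h.irr₂), ← classInner_conj, hb,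
      Complex.conj_natCast]
  have hind : Cfsg.indFun C θ = (a : ℂ) • χ₁ + (b : ℂ) • χ₂ := by
    conv_lhs => rw [eq_sum_irr (isClassFunction_indFun C θ)]
    rw [← Finset.sum_subset (s₁ := {χ₁, χ₂}) (fun χ hχ => ?_) (fun χ hχ hn => ?_),
      Finset.sum_pair h.ne, hI₁, hI₂]
    · rw [Finset.mem_insert, Finset.mem_singleton] at hχ
      rcases hχ with rfl | rfl
      exacts [mem_irrFinset.2 h.irr₁, mem_irrFinset.2 h.irr₂]
    · by_cases h0 : Cfsg.classInner (Cfsg.indFun C θ) χ = 0
      · rw [h0, zero_smul]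
      · refine absurd ?_ hn
        rw [Finset.mem_insert, Finset.mem_singleton]
        exact h.only χ (mem_irrFinset.1 hχ) ((classInner_indFun_ne_zero_iff
          (IsIrrCharacter.isClassFunction (mem_irrFinset.1 hχ)) θ).1 h0)
  refine ⟨a, b, Nat.pos_of_ne_zero fun h0 => h.over₁ (by rw [ha, h0, Nat.cast_zero]),
    Nat.pos_of_ne_zero fun h0 => h.over₂ (by rw [hb, h0, Nat.cast_zero]), ?_,
    ha ▸ restrict_eq_smul_of_invariant h.irr₁ h.irr h.inv h.over₁,
    hb ▸ restrict_eq_smul_of_invariant h.irr₂ h.irr h.inv h.over₂, hind⟩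
  have h1 := classInner_indFun_self_of_invariant h.irr h.inv
  conv_lhs at h1 => arg 2; rw [hind]
  rw [classInner_add_right, classInner_smul_right, classInner_smul_right, Complex.conj_natCast,
    Complex.conj_natCast, hI₁, hI₂] at h1
  have h2 : a * a + b * b = C.index := by exact_mod_cast h1
  rw [← Subgroup.index_eq_card, ← h2]
  ring

theorem sum_norm_theta {θ : C → ℂ} (hθ : Cfsg.IsIrrCharacter C θ) :
    ∑ c : C, θ c * conj (θ c) = Nat.card C := by
  rw [sum_eq_card_mul_classInner, IsIrrCharacter.classInner_self hθ, mul_one]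

/-- The key support property. -/
theorem support (h : TwoOver θ χ₁ χ₂) {x : X ⧸ C} (hx : x ≠ 1)
    (hcyc : IsCyclic (Subgroup.centralizer ({x} : Set (X ⧸ C)))) :
    (∃ k : X, (k : X ⧸ C) = x ∧ χ₁ k ≠ 0) ∧
      ∀ k : X, k ∉ C → ¬ IsConj x (k : X ⧸ C) → χ₁ k = 0 := by
  classical
  obtain ⟨a, b, ha, hb, -, hra, hrb, hind⟩ := h.exists_mult
  obtain ⟨g, rfl⟩ := QuotientGroup.mk_surjective x
  let H : Subgroup X :=
    (Subgroup.centralizer ({(g : X ⧸ C)} : Set (X ⧸ C))).comap (QuotientGroup.mk' C)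
  haveI : Fintype H := Fintype.ofFinite _
  let N : Subgroup H := C.subgroupOf H
  haveI : Fintype N := Fintype.ofFinite _
  have hCH : C ≤ H := fun c hc => by
    simp [H, Subgroup.mem_comap, (QuotientGroup.eq_one_iff c).2 hc]
  let eN : N ≃* C := Subgroup.subgroupOfEquivOfLe hCH
  have heN : ∀ n : N, ((eN n : C) : X) = ((n : H) : X) := fun n => rfl
  let θ' : N → ℂ := fun n => θ (eN n)
  have hθ' : Cfsg.IsIrrCharacter N θ' :=
    IsIrrCharacter.comp_surjective h.irr eN.toMonoidHom eN.surjective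
  -- an extension
  obtain ⟨w, hw⟩ := hcyc.exists_generator
  obtain ⟨y, hy⟩ := QuotientGroup.mk_surjective (w : X ⧸ C)
  have hyH : y ∈ H := by
    rw [Subgroup.mem_comap, QuotientGroup.mk'_apply, hy]
    exact w.2
  have hgen : ∀ k : H, ∃ n ∈ N, ∃ i : ℕ, k = n * (⟨y, hyH⟩ : H) ^ i := by
    intro k
    obtain ⟨i, hi⟩ := mem_powers_iff_mem_zpowers.2 (hw ⟨((k : X) : X ⧸ C), k.2⟩)
    refine ⟨k * ((⟨y, hyH⟩ : H) ^ i)⁻¹, ?_, i, (inv_mul_cancel_right _ _).symm⟩
    rw [Subgroup.mem_subgroupOf, ← QuotientGroup.eq_one_iff]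
    have hi' : (w : X ⧸ C) ^ i = ((k : X) : X ⧸ C) := congrArg Subtype.val hi
    simp [hy, hi']
  obtain ⟨η, hη, hηθ⟩ := CfsgLib.PPrimeCount.exists_extension_cyclic N ⟨y, hyH⟩ hgen hθ' (by
    intro k k' hk
    have hI := (mem_inertia_iff θ y).1 (h.inv ▸ Subgroup.mem_top y) (eN k)
    refine (congrArg θ (Subtype.ext ?_)).trans hI
    rw [heN]
    change ((k' : H) : X) = y * ((eN k : C) : X) * y⁻¹
    rw [hk, heN]
    rfl)
  have hres : Cfsg.IsIrrCharacter N (fun n : N => η n) := by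
    rw [funext hηθ]; exact hθ'
  -- the coset function
  have hgH : g ∈ H := by
    rw [Subgroup.mem_comap, QuotientGroup.mk'_apply]
    exact Subgroup.mem_centralizer_singleton_iff.2 rfl
  let f : H → ℂ := fun k => if ((k : X) : X ⧸ C) = (g : X ⧸ C) then η k else 0
  let F := Cfsg.indFun H f
  have hmem : ∀ {k t : X}, (k : X ⧸ C) = (g : X ⧸ C) →
      ((t⁻¹ * k * t : X) : X ⧸ C) = (g : X ⧸ C) → t ∈ H := by
    intro k t hk ht
    rw [Subgroup.mem_comap, QuotientGroup.mk'_apply]
    refine Subgroup.mem_centralizer_singleton_iff.2 ?_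
    simp only [QuotientGroup.mk_mul, QuotientGroup.mk_inv, hk, mul_assoc,
      inv_mul_eq_iff_eq_mul] at ht
    exact ht.symm
  have hFval : ∀ k : H, ((k : X) : X ⧸ C) = (g : X ⧸ C) → F k = η k := by
    intro k hk
    have hterm : ∀ t : X, Cfsg.extendByZero H f (t⁻¹ * (k : X) * t) =
        Cfsg.extendByZero H (fun _ => η k) t := by
      intro t
      by_cases ht : t ∈ H
      · have hm : t⁻¹ * (k : X) * t ∈ H := mul_mem (mul_mem (inv_mem ht) k.2) ht
        rw [extendByZero_of_mem _ hm, extendByZero_of_mem _ ht]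
        have hc : ((t⁻¹ * (k : X) * t : X) : X ⧸ C) = (g : X ⧸ C) := by
          have := Subgroup.mem_centralizer_singleton_iff.1 ht
          simp only [QuotientGroup.mk_mul, QuotientGroup.mk_inv, hk, mul_assoc,
            inv_mul_eq_iff_eq_mul]
          exact this.symm
        simp only [f, hc, if_true]
        exact (congrArg η (Subtype.ext (by simp))).trans
          (IsIrrCharacter.isClassFunction hη k (⟨t, ht⟩⁻¹ : H))
      · rw [extendByZero_of_not_mem _ ht]
        by_cases hm : t⁻¹ * (k : X) * t ∈ H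
        · rw [extendByZero_of_mem _ hm]
          exact if_neg fun hc => ht (hmem hk hc)
        · exact extendByZero_of_not_mem _ hm
    simp only [F, indFun_def]
    rw [Finset.sum_congr rfl fun t _ => hterm t]
    have := sum_extendByZero (H := H) (fun _ => η k) (fun _ => (1 : ℂ))
    simp only [mul_one] at this
    rw [this, Finset.sum_const, Finset.card_univ, nsmul_eq_mul, Nat.card_eq_fintype_card,
      inv_mul_cancel_left₀ (by exact_mod_cast Fintype.card_ne_zero)]
  have hFzero : ∀ k : X, ¬ IsConj (g : X ⧸ C) (k : X ⧸ C) → F k = 0 := by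
    intro k hk
    simp only [F, indFun_def]
    refine mul_eq_zero_of_right _ (Finset.sum_eq_zero fun t _ => ?_)
    by_cases hm : t⁻¹ * k * t ∈ H
    · rw [extendByZero_of_mem _ hm]
      refine if_neg fun hc => hk (isConj_iff.2 ⟨(t : X ⧸ C), ?_⟩)
      rw [← hc]
      simp [mul_assoc]
    · exact extendByZero_of_not_mem _ hm
  -- orthogonality
  have horth : ∀ χ, Cfsg.IsIrrCharacter X χ → Cfsg.classInner (fun c : C => χ c) θ = 0 →
      Cfsg.classInner F χ = 0 := by
    intro χ hχ h0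
    simp only [F]
    rw [classInner_indFun f (IsIrrCharacter.isClassFunction hχ), classInner_def]
    refine mul_eq_zero_of_right _ ?_
    have hΦ : Cfsg.IsCharacter H (fun k : H => χ k) :=
      IsCharacter.restrict (IsIrrCharacter.isCharacter hχ) H
    have hzero : Cfsg.classInner (fun n : N => χ ((n : H) : X)) (fun n : N => η n) = 0 := by
      rw [funext hηθ, ← h0, classInner_def, classInner_def, Nat.card_congr eN.toEquiv]
      congr 1
      exact Fintype.sum_equiv eN.toEquiv _ _ fun n => rfl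
    have hs := congrArg conj (sum_coset_eq_zero hη hres hΦ hzero (⟨g, hgH⟩ : H))
    simp only [map_sum, map_mul, Complex.conj_conj, map_zero] at hs
    rw [← hs, ← Finset.sum_filter_of_ne (p := fun k : H => ((k : X) : X ⧸ C) = (g : X ⧸ C))]
    · refine Finset.sum_bij' (fun k hk => (⟨k * (⟨g, hgH⟩ : H)⁻¹, ?_⟩ : N))
        (fun n _ => (n : H) * ⟨g, hgH⟩) (fun k hk => Finset.mem_univ _) (fun n _ => ?_)
        (fun k hk => ?_) (fun n _ => ?_) (fun k hk => ?_)
      · rw [Subgroup.mem_subgroupOf, ← QuotientGroup.eq_one_iff]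
        simp [(Finset.mem_filter.1 hk).2]
      · refine Finset.mem_filter.2 ⟨Finset.mem_univ _, ?_⟩
        simp [(QuotientGroup.eq_one_iff _).2 (Subgroup.mem_subgroupOf.1 n.2)]
      · exact inv_mul_cancel_right _ _
      · exact Subtype.ext (mul_inv_cancel_right _ _)
      · simp only [f, (Finset.mem_filter.1 hk).2, if_true, inv_mul_cancel_right]
        exact mul_comm _ _
    · intro k _ hk
      by_contra hc
      simp [f, hc] at hk
  have hexp : F = Cfsg.classInner F χ₁ • χ₁ + Cfsg.classInner F χ₂ • χ₂ := by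
    conv_lhs => rw [eq_sum_irr (ψ := F) (isClassFunction_indFun H f)]
    rw [← Finset.sum_subset (s₁ := {χ₁, χ₂}) (fun χ hχ => ?_) (fun χ hχ hn => ?_),
      Finset.sum_pair h.ne]
    · rw [Finset.mem_insert, Finset.mem_singleton] at hχ
      rcases hχ with rfl | rfl
      exacts [mem_irrFinset.2 h.irr₁, mem_irrFinset.2 h.irr₂]
    · rw [horth χ (mem_irrFinset.1 hχ), zero_smul]
      by_contra h0
      refine hn ?_
      rw [Finset.mem_insert, Finset.mem_singleton]
      exact h.only χ (mem_irrFinset.1 hχ) h0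
  set α := Cfsg.classInner F χ₁
  set β := Cfsg.classInner F χ₂
  -- the value at one
  have hαβ : α * a + β * b = 0 := by
    have h1 : F 1 = 0 := hFzero 1 fun hc => hx (by
      obtain ⟨c, hc⟩ := isConj_iff.1 hc
      rw [QuotientGroup.mk_one] at hc
      simpa using hc)
    have e1 := congrFun hra 1
    have e2 := congrFun hrb 1
    simp only [Pi.smul_apply, smul_eq_mul, OneMemClass.coe_one] at e1 e2
    rw [hexp] at h1
    simp only [Pi.add_apply, Pi.smul_apply, smul_eq_mul, e1, e2] at h1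
    exact (mul_eq_zero.1 (show (α * a + β * b) * θ 1 = 0 by linear_combination h1)).resolve_right
      (IsIrrCharacter.apply_one_ne_zero h.irr)
  have hmult : ∀ k : X, k ∉ C →
      (b : ℂ) * F k = (α * b - β * a) * χ₁ k := by
    intro k hk
    have h0 := congrFun hind k
    rw [indFun_eq_zero_of_normal _ hk] at h0
    conv_lhs => rw [hexp]
    simp only [Pi.add_apply, Pi.smul_apply, smul_eq_mul] at h0 ⊢
    linear_combination -β * h0
  -- a nonzero value
  obtain ⟨k, hkg, hkF⟩ : ∃ k : H, ((k : X) : X ⧸ C) = (g : X ⧸ C) ∧ η k ≠ 0 := by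
    by_contra! hall
    have h1 := CfsgLib.PPrimeCount.sum_norm_coset N hη hres (⟨g, hgH⟩ : H)
    rw [Finset.sum_eq_zero fun n _ => by
      rw [hall _ (by simp [(QuotientGroup.eq_one_iff _).2 (Subgroup.mem_subgroupOf.1 n.2)]),
        zero_mul]] at h1
    exact absurd h1.symm (by exact_mod_cast Nat.card_pos.ne')
  rw [← hFval k hkg] at hkF
  have hb0 : (b : ℂ) ≠ 0 := by exact_mod_cast hb.ne'
  have hkC : (k : X) ∉ C := fun hc => hx (hkg ▸ (QuotientGroup.eq_one_iff _).2 hc)
  have hne : (b : ℂ) * F k ≠ 0 := mul_ne_zero hb0 hkF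
  rw [hmult _ hkC, mul_ne_zero_iff] at hne
  refine ⟨⟨k, hkg, hne.2⟩, fun l hl hconj => ?_⟩
  have := hmult l hl
  rw [hFzero l hconj, mul_zero, eq_comm, mul_eq_zero] at this
  exact this.resolve_left hne.1

theorem unique (h : TwoOver θ χ₁ χ₂) {x y : X ⧸ C} (hx : x ≠ 1) (hy : y ≠ 1)
    (hcx : IsCyclic (Subgroup.centralizer ({x} : Set (X ⧸ C))))
    (hcy : IsCyclic (Subgroup.centralizer ({y} : Set (X ⧸ C)))) : IsConj x y := by
  obtain ⟨k, rfl, hk⟩ := (h.support hy hcy).1
  by_contra hc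
  exact hk ((h.support hx hcx).2 k (fun hm => hy ((QuotientGroup.eq_one_iff k).2 hm)) hc)

theorem integral (h : TwoOver θ χ₁ χ₂) {a b : ℕ} (hab : Nat.card (X ⧸ C) = a ^ 2 + b ^ 2)
    (hra : (fun c : C => χ₁ c) = (a : ℂ) • θ) {x : X ⧸ C} (hr : (orderOf x).Prime)
    (hC : Subgroup.centralizer ({x} : Set (X ⧸ C)) = Subgroup.zpowers x)
    (hconj : ∀ i : ℕ, ¬ orderOf x ∣ i → IsConj x (x ^ i)) :
    ∃ z : ℤ, z * ((a : ℤ) ^ 2 + (b : ℤ) ^ 2) = (orderOf x : ℤ) * (b : ℤ) ^ 2 := by
  classical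
  haveI : Fintype (X ⧸ C) := Fintype.ofFinite _
  set r := orderOf x with hrdef
  have hx : x ≠ 1 := fun h1 => hr.ne_one (by rw [hrdef, h1, orderOf_one])
  have hcyc : IsCyclic (Subgroup.centralizer ({x} : Set (X ⧸ C))) := by rw [hC]; infer_instance
  obtain ⟨-, hsupp⟩ := h.support hx hcyc
  let v : X → ℂ := fun k => χ₁ k * conj (χ₁ k)
  let S : X ⧸ C → ℂ := fun e => ∑ k ∈ univ.filter (fun k : X => (k : X ⧸ C) = e), v k
  have hcl := IsIrrCharacter.isClassFunction h.irr₁
  have hSconj : ∀ e, IsConj x e → S e = S x := by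
    intro e he
    obtain ⟨c, rfl⟩ := isConj_iff.1 he
    obtain ⟨t, rfl⟩ := QuotientGroup.mk_surjective c
    refine (Finset.sum_equiv (MulAut.conj t).toEquiv (fun k => ?_) fun k _ => ?_).symm
    · simp
    · simp [v, hcl k t]
  have hS0 : ∀ e, e ≠ 1 → ¬ IsConj x e → S e = 0 := fun e he hne =>
    Finset.sum_eq_zero fun k hk => by
      have hke := (Finset.mem_filter.1 hk).2
      simp [v, hsupp k (fun hm => he (hke ▸ (QuotientGroup.eq_one_iff k).2 hm)) (hke ▸ hne)]
  have hS1 : S 1 = (a : ℂ) ^ 2 * Nat.card C := by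
    rw [← sum_norm_theta h.irr, Finset.mul_sum]
    refine Finset.sum_bij' (fun k hk => (⟨k, (QuotientGroup.eq_one_iff k).1
      (Finset.mem_filter.1 hk).2⟩ : C)) (fun c _ => (c : X)) (fun _ _ => Finset.mem_univ _)
      (fun c _ => Finset.mem_filter.2 ⟨Finset.mem_univ _, (QuotientGroup.eq_one_iff _).2 c.2⟩)
      (fun _ _ => rfl) (fun _ _ => rfl) (fun k hk => ?_)
    have := congrFun hra ⟨k, (QuotientGroup.eq_one_iff k).1 (Finset.mem_filter.1 hk).2⟩
    simp only [Pi.smul_apply, smul_eq_mul] at this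
    simp only [v, this, map_mul, Complex.conj_natCast]
    ring
  have htot : ∑ e : X ⧸ C, S e = Nat.card X := by
    rw [Finset.sum_fiberwise (s := univ) (g := fun k : X => (k : X ⧸ C)) (f := v),
      sum_eq_card_mul_classInner, IsIrrCharacter.classInner_self h.irr₁, mul_one]
  have hcls : r * (univ.filter (fun e : X ⧸ C => IsConj x e)).card = Nat.card (X ⧸ C) := by
    have h1 : Nat.card (MulAction.orbit (ConjAct (X ⧸ C)) x) *
        Nat.card (MulAction.stabilizer (ConjAct (X ⧸ C)) x) = Nat.card (ConjAct (X ⧸ C)) := by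
      rw [← Nat.card_prod]
      exact Nat.card_congr (MulAction.orbitProdStabilizerEquivGroup _ x)
    have h2 : MulAction.orbit (ConjAct (X ⧸ C)) x =
        ((univ.filter fun e : X ⧸ C => IsConj x e : Finset (X ⧸ C)) : Set (X ⧸ C)) := by
      ext e
      rw [ConjAct.mem_orbit_conjAct, Finset.coe_filter, Set.mem_ofPred_eq, isConj_comm]
      simp
    have h3 : Nat.card (MulAction.stabilizer (ConjAct (X ⧸ C)) x) = r := by
      rw [hrdef, ← Nat.card_zpowers, ← hC]
      refine Nat.card_congr (Equiv.subtypeEquiv ConjAct.ofConjAct.toEquiv fun c => ?_)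
      rw [Subgroup.mem_centralizer_singleton_iff, MulAction.mem_stabilizer_iff,
        ConjAct.smul_def, mul_inv_eq_iff_eq_mul]
      exact Iff.rfl
    rw [h2, Nat.card_coe_set_eq, Set.ncard_coe_finset, h3] at h1
    rw [mul_comm, h1]
    exact Nat.card_congr ConjAct.ofConjAct.toEquiv
  set n := (univ.filter (fun e : X ⧸ C => IsConj x e)).card with hn
  have hsum : (a : ℂ) ^ 2 * Nat.card C + n * S x = Nat.card X := by
    rw [← htot, ← Finset.add_sum_erase univ S (Finset.mem_univ 1), hS1]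
    congr 1
    rw [← Finset.sum_subset (s₁ := univ.filter fun e : X ⧸ C => IsConj x e) (fun e he => ?_)
      (fun e he hne => ?_), Finset.sum_congr rfl fun e he => hSconj e (Finset.mem_filter.1 he).2,
      Finset.sum_const, nsmul_eq_mul]
    · refine Finset.mem_erase.2 ⟨?_, Finset.mem_univ _⟩
      rintro rfl
      exact hx (isConj_one_left.1 (Finset.mem_filter.1 he).2)
    · exact hS0 e (Finset.mem_erase.1 he).1 fun hc =>
        hne (Finset.mem_filter.2 ⟨Finset.mem_univ _, hc⟩)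
  -- the linear character
  let Z := Subgroup.zpowers x
  let H : Subgroup X := Z.comap (QuotientGroup.mk' C)
  haveI : Fintype H := Fintype.ofFinite _
  let π : H →* Z :=
    { toFun := fun k => ⟨((k : X) : X ⧸ C), k.2⟩
      map_one' := rfl
      map_mul' := fun k l => rfl }
  have hr0 : r ≠ 0 := hr.pos.ne'
  have hω := Complex.isPrimitiveRoot_exp r hr0
  let w : ℂˣ := Units.mk0 _ (hω.ne_zero hr0)
  have hw : orderOf w = r := (IsPrimitiveRoot.coe_units_iff.1 hω : IsPrimitiveRoot w r).eq_orderOf.symm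
  have hgenZ : ∀ e : Z, e ∈ Subgroup.zpowers (⟨x, Subgroup.mem_zpowers x⟩ : Z) := by
    rintro ⟨e, i, rfl⟩
    exact ⟨i, rfl⟩
  let μ : Z →* ℂˣ := monoidHomOfForallMemZpowers hgenZ
    (show orderOf w ∣ orderOf (⟨x, Subgroup.mem_zpowers x⟩ : Z) by rw [Subgroup.orderOf_mk, hw])
  have hμ1 : (Units.coeHom ℂ).comp μ ≠ 1 := by
    intro h1
    have h2 : (w : ℂ) = 1 := by
      have h3 := DFunLike.congr_fun h1 ⟨x, Subgroup.mem_zpowers x⟩
      simpa [μ, monoidHomOfForallMemZpowers_apply_gen] using h3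
    rw [Units.val_eq_one] at h2
    rw [h2, orderOf_one] at hw
    exact hr.ne_one hw.symm
  have hψ := IsCharacter.restrict (IsIrrCharacter.isCharacter h.irr₁) H
  let ψ : H → ℂ := fun k => χ₁ k
  let ε : H → ℂ := fun k => (μ (π k) : ℂ)
  obtain ⟨N₁, hN₁⟩ := IsCharacter.exists_classInner_eq_natCast' hψ hψ
  obtain ⟨N₂, hN₂⟩ := IsCharacter.exists_classInner_eq_natCast'
    (IsCharacter.mul (isCharacter_ofHom (μ.comp π)) hψ) hψ
  refine ⟨(N₁ : ℤ) - N₂, ?_⟩
  have hcardH : Nat.card H = r * Nat.card C := by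
    have h1 : H.index = Z.index :=
      Subgroup.index_comap_of_surjective _ (QuotientGroup.mk'_surjective C)
    have h2 := H.card_mul_index
    have h3 := Z.card_mul_index
    rw [Nat.card_zpowers] at h3
    rw [h1, Subgroup.card_eq_card_quotient_mul_card_subgroup C, ← h3] at h2
    have hpos : 0 < Z.index := Nat.pos_of_ne_zero Subgroup.index_ne_zero_of_finite
    refine Nat.eq_of_mul_eq_mul_right hpos ?_
    rw [h2]; ring
  have hdiff : (Nat.card H : ℂ) * ((N₁ : ℂ) - N₂) = r * S x := by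
    have e1 : (Nat.card H : ℂ) * (N₁ : ℂ) = ∑ k : H, v k := by
      rw [← hN₁, ← sum_eq_card_mul_classInner]
    have e2 : (Nat.card H : ℂ) * (N₂ : ℂ) = ∑ k : H, ε k * v k := by
      rw [← hN₂, ← sum_eq_card_mul_classInner]
      exact Finset.sum_congr rfl fun k _ => mul_assoc _ _ _
    rw [mul_sub, e1, e2, ← Finset.sum_sub_distrib,
      ← Finset.sum_fiberwise (s := univ) (g := fun k : H => π k)]
    have hfib : ∀ e : Z, ∑ k ∈ univ.filter (fun k : H => π k = e),
        (v (k : X) - ε k * v (k : X)) = (1 - (μ e : ℂ)) * S e := by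
      intro e
      rw [Finset.mul_sum]
      refine Finset.sum_bij' (fun k _ => (k : X))
        (fun k hk => (⟨k, ?_⟩ : H)) (fun k hk => ?_) (fun k hk => ?_) (fun k hk => rfl)
        (fun k hk => rfl) (fun k hk => ?_)
      · change ((k : X) : X ⧸ C) ∈ Z
        rw [(Finset.mem_filter.1 hk).2]; exact e.2
      · exact Finset.mem_filter.2 ⟨Finset.mem_univ _,
          congrArg Subtype.val (Finset.mem_filter.1 hk).2⟩
      · exact Finset.mem_filter.2 ⟨Finset.mem_univ _, Subtype.ext (Finset.mem_filter.1 hk).2⟩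
      · simp only [ε, (Finset.mem_filter.1 hk).2]
        ring
    rw [Finset.sum_congr rfl fun e _ => hfib e,
      Finset.sum_congr rfl fun (e : Z) _ => show (1 - (μ e : ℂ)) * S e = (1 - (μ e : ℂ)) * S x by
        by_cases he : e = 1
        · simp [he]
        · congr 1
          obtain ⟨i, hi⟩ := mem_powers_iff_mem_zpowers.2 e.2
          refine hSconj _ ?_
          rw [← hi]
          refine hconj i fun hd => he (Subtype.ext ?_)
          rw [← hi]
          exact orderOf_dvd_iff_pow_eq_one.1 hd,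
      ← Finset.sum_mul, Finset.sum_sub_distrib, Finset.sum_const, Finset.card_univ, nsmul_eq_mul,
      mul_one, ← Nat.card_eq_fintype_card, Nat.card_zpowers]
    have h0 : ∑ e : Z, (μ e : ℂ) = 0 := sum_hom_units_eq_zero ((Units.coeHom ℂ).comp μ) hμ1
    rw [h0, sub_zero]
  have hX : (Nat.card X : ℂ) = Nat.card (X ⧸ C) * Nat.card C := by
    exact_mod_cast Subgroup.card_eq_card_quotient_mul_card_subgroup C
  have hcls' : (r : ℂ) * n = Nat.card (X ⧸ C) := by exact_mod_cast hcls
  have hab' : (Nat.card (X ⧸ C) : ℂ) = (a : ℂ) ^ 2 + (b : ℂ) ^ 2 := by exact_mod_cast hab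
  have hcast : (Nat.card H : ℂ) = r * Nat.card C := by exact_mod_cast hcardH
  have hgoal : ((N₁ : ℂ) - N₂) * ((a : ℂ) ^ 2 + (b : ℂ) ^ 2) = r * (b : ℂ) ^ 2 := by
    have hC0 : (r : ℂ) * Nat.card C ≠ 0 :=
      mul_ne_zero (by exact_mod_cast hr0) (by exact_mod_cast Nat.card_pos.ne')
    refine mul_left_cancel₀ hC0 ?_
    rw [hcast] at hdiff
    rw [hX, hab'] at hsum
    rw [hab'] at hcls'
    linear_combination ((a : ℂ) ^ 2 + (b : ℂ) ^ 2) * hdiff + (r : ℂ) ^ 2 * hsum
      - (r : ℂ) * S x * hcls'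
  exact_mod_cast hgoal

end TwoOver

end CfsgLib.ThreeNormal
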