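import Cfsg.Agent.Blocks.Reynolds
import Cfsg.Agent.Blocks.NormalDefectSplit
import Cfsg.Agent.Blocks.InvariantCover
import Cfsg.Agent.Blocks.Transport
import Cfsg.Agent.BlocksB.QuotientPCentral
import Cfsg.Agent.BlocksB.Weights
import Cfsg.Agent.SL2Blocks.Basic
import Cfsg.Agent.Char.NormalSub

/-!
# Members of a block over a central elementary defect group
-/

set_option autoImplicit false
set_option linter.style.haveILetI false
set_option linter.unusedSectionVars false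

namespace CfsgLib.ThreeNormal

open Cfsg Finset CfsgLib.Block CfsgLib.Block.Chr CfsgLib.Char

universe u v

/-- Constituents of constituents are constituents. -/
theorem constituent_trans {A : Type u} [Group A] [Fintype A] {B : Type v} [Group B] [Fintype B]
    (f : A →* B) {Φ : B → ℂ} (hΦ : IsCharacter B Φ) {ζ : B → ℂ} (hζ : IsIrrCharacter B ζ)
    (h : classInner Φ ζ ≠ 0) {μ : A → ℂ} (hμ : IsIrrCharacter A μ)
    (h' : classInner (fun a => ζ (f a)) μ ≠ 0) : classInner (fun a => Φ (f a)) μ ≠ 0 := by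
  obtain ⟨m, hm⟩ := IsCharacter.exists_classInner_eq_natCast
    (IsCharacter.comp (IsIrrCharacter.isCharacter hζ) f) hμ
  obtain ⟨k, hk⟩ := IsCharacter.exists_classInner_eq_natCast
    (IsCharacter.comp (IsCharacter.sub_irr hΦ hζ h) f) hμ
  have hm0 : m ≠ 0 := fun h0 => h' (by rw [hm, h0, Nat.cast_zero])
  have : (fun a => Φ (f a)) = (fun a => ζ (f a)) + fun a => (Φ - ζ) (f a) :=
    funext fun a => by simp
  rw [this, classInner_add_left, hm, hk, ← Nat.cast_add, Nat.cast_ne_zero]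
  omega

section

variable {G : Type u} [Group G] [Fintype G]

/-- Some irreducible character lies over a given one. -/
theorem exists_irr_over (N : Subgroup G) [Fintype N] (ζ : IrrCharacter N) :
    ∃ χ : IrrCharacter G, classInner (fun n : N => (χ : G → ℂ) n) (ζ : N → ℂ) ≠ 0 := by
  obtain ⟨χ, hχ, hc⟩ := IsCharacter.exists_constituent
    (IsCharacter.indFun (G := G) (IsIrrCharacter.isCharacter ζ.2)) fun h0 => by
      have := congrFun h0 1
      rw [indFun_one, Pi.zero_apply, mul_eq_zero] at this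
      exact this.elim (by exact_mod_cast N.index_ne_zero_of_finite)
        (IsIrrCharacter.apply_one_ne_zero ζ.2)
  refine ⟨⟨χ, hχ⟩, fun h0 => hc ?_⟩
  rw [classInner_indFun _ (IsIrrCharacter.isClassFunction hχ), ← classInner_conj, h0, map_zero]

theorem apply_of_over {V : Subgroup G} [V.Normal] [Fintype V] (φ : V →* ℂˣ)
    (hinv : ∀ (g : G) (v : V), φ ⟨g * v * g⁻¹, Subgroup.Normal.conj_mem ‹_› (v : G) v.2 g⟩ = φ v)
    {χ : G → ℂ} (hχ : IsIrrCharacter G χ)
    (h : classInner (fun v : V => χ v) (fun v => (φ v : ℂ)) ≠ 0) (v : V) :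
    χ v = χ 1 * (φ v : ℂ) := by
  have hI : inertia (G := G) (fun v : V => (φ v : ℂ)) = ⊤ :=
    inertia_eq_top fun g n => congrArg Units.val (hinv g n)
  have h1 := restrict_eq_smul_of_invariant hχ (isIrrCharacter_ofHom φ) hI h
  have e1 := congrFun h1 1
  have e2 := congrFun h1 v
  simp only [Pi.smul_apply, smul_eq_mul, OneMemClass.coe_one, map_one, Units.val_one,
    mul_one] at e1 e2
  rw [e2, e1]

theorem inner_of_apply {V : Subgroup G} [Fintype V] (φ : V →* ℂˣ) {χ : G → ℂ}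
    (hχ : IsIrrCharacter G χ) (h : ∀ v : V, χ v = χ 1 * (φ v : ℂ)) :
    classInner (fun v : V => χ v) (fun v => (φ v : ℂ)) ≠ 0 := by
  rw [show (fun v : V => χ v) = χ 1 • fun v : V => (φ v : ℂ) from funext h, classInner_smul_left,
    IsIrrCharacter.classInner_self (isIrrCharacter_ofHom φ), mul_one]
  exact IsIrrCharacter.apply_one_ne_zero hχ

theorem exists_constituent_hom {V : Subgroup G} [Fintype V]
    (hab : ∀ a ∈ V, ∀ c ∈ V, a * c = c * a) {χ : G → ℂ} (hχ : IsIrrCharacter G χ) :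
    ∃ φ : V →* ℂˣ, classInner (fun v : V => χ v) (fun v => (φ v : ℂ)) ≠ 0 := by
  obtain ⟨ψ, hψ, hc⟩ := IsCharacter.exists_constituent
    (IsCharacter.restrict (IsIrrCharacter.isCharacter hχ) V)
    fun h0 => IsIrrCharacter.apply_one_ne_zero hχ (by simpa using congrFun h0 1)
  obtain ⟨φ, hφ⟩ := IsCharacter.exists_hom (IsIrrCharacter.isCharacter hψ)
    (IsIrrCharacter.apply_one_eq_one hψ fun a c => Subtype.ext (hab a a.2 c c.2))
  exact ⟨φ, hφ ▸ hc⟩

/-- Regular elements in one coset of an elementary normal `p`-subgroup are conjugate by it. -/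
theorem exists_conj_of_lift {p : ℕ} (hp : p.Prime) {V : Subgroup G} [hV : V.Normal]
    (hab : ∀ a ∈ V, ∀ c ∈ V, a * c = c * a) (hexp : ∀ a ∈ V, a ^ p = 1) {g : G}
    (hg : ¬ p ∣ orderOf g) {v : G} (hv : v ∈ V) (hvg : ¬ p ∣ orderOf (v * g)) :
    ∃ w ∈ V, w * g * w⁻¹ = v * g := by
  classical
  letI : CommGroup V :=
    { (inferInstance : Group V) with mul_comm := fun a c => Subtype.ext (hab a a.2 c c.2) }
  let s : ℕ → V := fun i => MulAut.conjNormal (g ^ i) (⟨v, hv⟩ : V)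
  let P : ℕ → V := fun n => ∏ i ∈ range n, s i
  let U : ℕ → V := fun n => ∏ i ∈ range n, s i ^ i
  let σ : V ≃* V := MulAut.conjNormal g
  have hs : ∀ i, σ (s i) = s (i + 1) := fun i => Subtype.ext (by
    simp [σ, s, pow_succ', mul_assoc])
  have hpow : ∀ n, (v * g) ^ n = (P n : G) * g ^ n := by
    intro n
    induction n with
    | zero => simp [P]
    | succ n ih =>
      rw [pow_succ, ih]
      simp only [P, prod_range_succ, Subgroup.coe_mul, pow_succ]
      simp [s, -map_pow, mul_assoc]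
  have hU : ∀ n, U n * s n ^ n = σ (U n) * σ (P n) := by
    intro n
    induction n with
    | zero => simp [U, P]
    | succ n ih =>
      simp only [U, P, prod_range_succ, map_mul, map_pow] at ih ⊢
      rw [ih, hs, pow_succ]
      ac_rfl
  set o := orderOf g with ho
  have hPo : P o = 1 := by
    have h1 : (v * g) ^ o = (P o : G) := by rw [hpow, ho, pow_orderOf_eq_one, mul_one]
    have h2 : orderOf (P o : G) ∣ p := orderOf_dvd_of_pow_eq_one (hexp _ (P o).2)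
    rcases (Nat.dvd_prime hp).1 h2 with h | h
    · exact Subtype.ext (orderOf_eq_one_iff.1 h)
    · exact absurd (h ▸ h1 ▸ orderOf_pow_dvd o) hvg
  have hso : s o = ⟨v, hv⟩ := Subtype.ext (by simp [s, ho, -map_pow, pow_orderOf_eq_one])
  have hUo := hU o
  rw [hPo, map_one, mul_one, hso] at hUo
  obtain ⟨k, hk⟩ := exists_pow_eq_self_of_coprime (x := (⟨v, hv⟩ : V)) (n := o) (by
    refine Nat.Coprime.coprime_dvd_right (orderOf_dvd_of_pow_eq_one (Subtype.ext (hexp v hv))) ?_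
    exact (hp.coprime_iff_not_dvd.2 hg).symm)
  refine ⟨(((U o) ^ k)⁻¹ : V), SetLike.coe_mem _, ?_⟩
  have hw : ((U o) ^ k)⁻¹ * σ ((U o) ^ k) = (⟨v, hv⟩ : V) := by
    rw [map_pow, ← hUo, mul_pow, inv_mul_cancel_left, hk]
  have := congrArg (fun x : V => (x : G)) hw
  simp only [σ, map_pow, Subgroup.coe_mul, InvMemClass.coe_inv, SubmonoidClass.coe_pow,
    MulAut.conjNormal_apply] at this
  rw [conj_pow] at this
  rw [← this]
  simp [mul_assoc]

end

section Central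

variable {G : Type u} [Group G] [Fintype G] {M : Ideal AlgInt} [M.IsPrime] {p : ℕ}
  [hp : Fact p.Prime] {V : Subgroup G} [V.Normal]

/-- A character of defect zero modulo a central `p`-subgroup spans a block with that defect
group. -/
theorem isDefectGroup_of_weight (hM : IsPModular p M) (hV : IsPGroup p V)
    (hcen : Subgroup.centralizer (V : Set G) = ⊤) (θ : IrrCharacter G)
    (hθV : ∀ v ∈ V, (θ : G → ℂ) v = (θ : G → ℂ) 1)
    (hw : (charDegree (θ : G → ℂ)).factorization p + (Nat.card V).factorization p =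
      (Nat.card G).factorization p) :
    IsDefectGroup p M (blockOf M (θ : G → ℂ)) V := by
  classical
  haveI : Fintype (G ⧸ V) := Fintype.ofFinite _
  obtain ⟨φ, hφ⟩ := exists_quotient_irr V θ hθV
  have hinfl : Quot.inflIrr φ = θ := Subtype.ext (funext fun g => (hφ g).symm)
  obtain ⟨Bb, hBb, hinB, hD⟩ :=
    Quot.exists_block_map_defectGroup hM hV (isPBlock_blockOf (M := M) θ)
  have hdeg : charDegree (φ : G ⧸ V → ℂ) = charDegree (θ : G → ℂ) := by
    rw [charDegree, charDegree, hφ 1, QuotientGroup.mk_one]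
  have hcard : (Nat.card (G ⧸ V)).factorization p ≤
      (charDegree (φ : G ⧸ V → ℂ)).factorization p := by
    have h1 := congrArg (fun n : ℕ => n.factorization p)
      (Subgroup.card_eq_card_quotient_mul_card_subgroup V)
    simp only [Nat.factorization_mul Nat.card_pos.ne' Nat.card_pos.ne', Finsupp.add_apply] at h1
    rw [hdeg]
    omega
  have hsing := CfsgLib.SL2Blocks.blockOf_eq_singleton_of_degree hM φ hcard
  obtain ⟨ψ, rfl⟩ := id hBb
  have hψ : ψ = φ := by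
    have h1 : SameBlock M (θ : G → ℂ) (Quot.inflIrr ψ : G → ℂ) := hinB ψ (mem_blockOf_self ψ)
    rw [← hinfl, ← Quot.sameBlock_inflIrr_iff hM hV ⟨0, by rw [hcen, Subgroup.index_top, pow_zero]⟩]
      at h1
    have h2 : ψ ∈ blockOf M (φ : G ⧸ V → ℂ) := h1
    rwa [hsing, Set.mem_singleton_iff] at h2
  subst hψ
  have hd0 : blockDefect p (blockOf M (ψ : G ⧸ V → ℂ)) = 0 := by
    rw [blockDefect, hsing, Set.image_singleton, csInf_singleton, Nat.sub_eq_zero_iff_le]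
    exact hcard
  obtain ⟨Db, hDb⟩ := exists_defectGroup (p := p) hBb hM
  obtain ⟨P, hP, hPD⟩ := (hD Db).1 hDb
  have hc := card_defectGroup hM hBb hDb
  rw [hd0, pow_zero] at hc
  have hPV : P ≤ V := by
    rw [← Subgroup.eq_bot_iff_card] at hc
    rw [← QuotientGroup.ker_mk' V, ← Subgroup.map_eq_bot_iff, ← hPD, hc]
  rwa [le_antisymm hPV (normal_le_defectGroup hM (isPBlock_blockOf θ) hP V hV)] at hP

/-- Over each character of a central defect group lies exactly one member of the block. -/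
theorem members_central (hM : IsPModular p M) (hV : IsPGroup p V)
    (hcen : Subgroup.centralizer (V : Set G) = ⊤) {c : Set (IrrCharacter G)} (hc : IsPBlock M c)
    (hD : IsDefectGroup p M c V) :
    (∀ ζ ∈ c, ∃ φ : V →* ℂˣ, ∀ v : V, (ζ : G → ℂ) v = (ζ : G → ℂ) 1 * (φ v : ℂ)) ∧
      ∀ φ : V →* ℂˣ, ∃! ζ, ζ ∈ c ∧ ∀ v : V, (ζ : G → ℂ) v = (ζ : G → ℂ) 1 * (φ v : ℂ) := by
  classical
  haveI : Fintype V := Fintype.ofFinite _
  haveI := finite_irrCharacter G
  have hab : ∀ a ∈ V, ∀ d ∈ V, a * d = d * a := fun a ha d hd =>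
    (Subgroup.mem_centralizer_iff.1 (hcen ▸ Subgroup.mem_top d) a ha)
  have hinv : ∀ (φ : V →* ℂˣ) (g : G) (v : V),
      φ ⟨g * v * g⁻¹, Subgroup.Normal.conj_mem ‹_› (v : G) v.2 g⟩ = φ v := fun φ g v => by
    have hgc : g ∈ Subgroup.centralizer (V : Set G) := hcen ▸ Subgroup.mem_top g
    congr 1
    refine Subtype.ext ?_
    simp only
    rw [← Subgroup.mem_centralizer_iff.1 hgc v v.2, mul_inv_cancel_right]
  have hex : ∀ ζ : IrrCharacter G, ∃ φ : V →* ℂˣ,
      ∀ v : V, (ζ : G → ℂ) v = (ζ : G → ℂ) 1 * (φ v : ℂ) := fun ζ => by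
    obtain ⟨φ, hφ⟩ := exists_constituent_hom (V := V) hab ζ.2
    exact ⟨φ, apply_of_over φ (hinv φ) ζ.2 hφ⟩
  choose f hf using hex
  have huniq : ∀ (ζ : IrrCharacter G) (φ : V →* ℂˣ),
      (∀ v : V, (ζ : G → ℂ) v = (ζ : G → ℂ) 1 * (φ v : ℂ)) → f ζ = φ := fun ζ φ h =>
    MonoidHom.ext fun v => Units.ext
      (mul_left_cancel₀ (IsIrrCharacter.apply_one_ne_zero ζ.2) ((hf ζ v).symm.trans (h v)))
  have hsurj : Function.Surjective (fun ζ : c => f ζ.1) := fun φ => by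
    obtain ⟨χ, hχ, hne⟩ := exists_over_of_pGroup hM hc V hV
      (⟨fun v => (φ v : ℂ), isIrrCharacter_ofHom φ⟩ : IrrCharacter V)
    exact ⟨⟨χ, hχ⟩, huniq χ φ (apply_of_over φ (hinv φ) χ.2 hne)⟩
  have hcard : Nat.card c = Nat.card (V →* ℂˣ) := by
    rw [(split_block_count hM hV (by rw [hcen, sup_top_eq]) hc hD).2.2]
    letI : CommGroup V :=
      { (inferInstance : Group V) with mul_comm := fun a d => Subtype.ext (hab a a.2 d d.2) }
    haveI : NeZero (Monoid.exponent V : ℂ) :=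
      ⟨Nat.cast_ne_zero.2 Monoid.exponent_ne_zero_of_finite⟩
    rw [CommGroup.card_monoidHom_of_hasEnoughRootsOfUnity V ℂ]
    exact (Nat.card_congr ConjClasses.mkEquiv).symm
  have hbij := Function.Surjective.bijective_of_nat_card_le hsurj hcard.le
  refine ⟨fun ζ _ => ⟨f ζ, hf ζ⟩, fun φ => ?_⟩
  obtain ⟨ζ, hζ⟩ := hsurj φ
  refine ⟨ζ, ⟨ζ.2, fun v => (hf ζ v).trans (by rw [← hζ])⟩, fun η hη => ?_⟩
  exact congrArg Subtype.val
    (hbij.1 (show f (⟨η, hη.1⟩ : c).1 = f ζ.1 from (huniq η φ hη.2).trans hζ.symm))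

/-- Two characters of defect zero modulo `V` give two blocks, each with a member above any
stable nontrivial linear character of `V`. -/
theorem exists_over_pair (hM : IsPModular p M) (hV : IsPGroup p V) (φ : V →* ℂˣ)
    (hinv : ∀ (g : G) (v : V), φ ⟨g * v * g⁻¹, Subgroup.Normal.conj_mem ‹_› (v : G) v.2 g⟩ = φ v)
    {η₁ η₂ : IrrCharacter G} (hne : η₁ ≠ η₂)
    (hk₁ : ∀ v ∈ V, (η₁ : G → ℂ) v = (η₁ : G → ℂ) 1)
    (hk₂ : ∀ v ∈ V, (η₂ : G → ℂ) v = (η₂ : G → ℂ) 1)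
    (hw₁ : (Nat.card G).factorization p ≤
      (charDegree (η₁ : G → ℂ)).factorization p + (Nat.card V).factorization p) :
    ∃ ψ₁ ψ₂ : IrrCharacter G, ψ₁ ≠ ψ₂ ∧
      SameBlock M (η₁ : G → ℂ) (ψ₁ : G → ℂ) ∧ SameBlock M (η₂ : G → ℂ) (ψ₂ : G → ℂ) ∧
      (∀ v : V, (ψ₁ : G → ℂ) v = (ψ₁ : G → ℂ) 1 * (φ v : ℂ)) ∧
      ∀ v : V, (ψ₂ : G → ℂ) v = (ψ₂ : G → ℂ) 1 * (φ v : ℂ) := by
  classical
  let K : Subgroup G := φ.ker.map V.subtype
  haveI hKn : K.Normal := ⟨by
    rintro _ ⟨v, hv, rfl⟩ g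
    exact ⟨⟨g * v * g⁻¹, Subgroup.Normal.conj_mem ‹_› (v : G) v.2 g⟩, (hinv g v).trans hv, rfl⟩⟩
  have hKV : K ≤ V := by rintro _ ⟨v, -, rfl⟩; exact v.2
  haveI : Fintype (G ⧸ K) := Fintype.ofFinite _
  let P : Subgroup (G ⧸ K) := V.map (QuotientGroup.mk' K)
  haveI : P.Normal := Subgroup.Normal.map ‹_› _ (QuotientGroup.mk'_surjective K)
  haveI : Fintype P := Fintype.ofFinite _
  haveI : Fintype ((G ⧸ K) ⧸ P) := Fintype.ofFinite _
  have hPp : IsPGroup p P := hV.map _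
  have hPcen : Subgroup.centralizer (P : Set (G ⧸ K)) = ⊤ := by
    refine eq_top_iff.2 fun x _ => Subgroup.mem_centralizer_iff.2 ?_
    rintro _ ⟨v, hv, rfl⟩
    obtain ⟨g, rfl⟩ := QuotientGroup.mk'_surjective K x
    rw [← map_mul, ← map_mul, QuotientGroup.mk'_eq_mk']
    refine ⟨(v * g)⁻¹ * (g * v), ?_, mul_inv_cancel_left _ _⟩
    have hm : g⁻¹ * v⁻¹ * g ∈ V := by
      simpa using Subgroup.Normal.conj_mem ‹V.Normal› v⁻¹ (inv_mem hv) g⁻¹
    refine ⟨⟨g⁻¹ * v⁻¹ * g, hm⟩ * ⟨v, hv⟩, ?_, ?_⟩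
    · have h1 : φ ⟨g⁻¹ * v⁻¹ * g, hm⟩ = φ (⟨v, hv⟩ : V)⁻¹ :=
        (congrArg φ (Subtype.ext (by simp))).trans (hinv g⁻¹ (⟨v, hv⟩ : V)⁻¹)
      rw [SetLike.mem_coe, MonoidHom.mem_ker, map_mul, h1, map_inv, inv_mul_cancel]
    · simp [mul_assoc]
  have hidx : P.index = V.index := by
    rw [← Subgroup.index_comap_of_surjective P (QuotientGroup.mk'_surjective K),
      Subgroup.comap_map_eq, QuotientGroup.ker_mk', sup_eq_left.2 hKV]
  -- descend
  obtain ⟨η₁', hη₁⟩ := exists_quotient_irr K η₁ fun n hn => hk₁ n (hKV hn)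
  obtain ⟨η₂', hη₂⟩ := exists_quotient_irr K η₂ fun n hn => hk₂ n (hKV hn)
  have hker : ∀ {η : IrrCharacter G} {η' : IrrCharacter (G ⧸ K)},
      (∀ v ∈ V, (η : G → ℂ) v = (η : G → ℂ) 1) →
      (∀ g : G, (η : G → ℂ) g = (η' : G ⧸ K → ℂ) (g : G ⧸ K)) →
      ∀ x ∈ P, (η' : G ⧸ K → ℂ) x = (η' : G ⧸ K → ℂ) 1 := by
    rintro η η' hk he _ ⟨v, hv, rfl⟩
    rw [QuotientGroup.mk'_apply, ← he, hk v hv, he, QuotientGroup.mk_one]
  obtain ⟨α₁, hα₁⟩ := exists_quotient_irr P η₁' (hker hk₁ hη₁)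
  obtain ⟨α₂, hα₂⟩ := exists_quotient_irr P η₂' (hker hk₂ hη₂)
  have hα : α₁ ≠ α₂ := fun h => hne (Subtype.ext (funext fun g => by
    rw [hη₁, hη₂, hα₁, hα₂, h]))
  have hsing : blockOf M (α₁ : (G ⧸ K) ⧸ P → ℂ) = {α₁} := by
    refine CfsgLib.SL2Blocks.blockOf_eq_singleton_of_degree hM α₁ ?_
    have hd : charDegree (α₁ : (G ⧸ K) ⧸ P → ℂ) = charDegree (η₁ : G → ℂ) := by
      rw [charDegree, charDegree, hη₁ 1, hα₁, QuotientGroup.mk_one, QuotientGroup.mk_one]
    rw [hd, ← Subgroup.index_eq_card, hidx]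
    have h1 := congrArg (fun n : ℕ => n.factorization p) V.card_mul_index
    simp only [Nat.factorization_mul Nat.card_pos.ne' Subgroup.index_ne_zero_of_finite,
      Finsupp.add_apply] at h1
    omega
  have hsep : ¬ SameBlock M (η₁' : G ⧸ K → ℂ) (η₂' : G ⧸ K → ℂ) := by
    have e₁ : Quot.inflIrr α₁ = η₁' := Subtype.ext (funext fun g => (hα₁ g).symm)
    have e₂ : Quot.inflIrr α₂ = η₂' := Subtype.ext (funext fun g => (hα₂ g).symm)
    rw [← e₁, ← e₂, ← Quot.sameBlock_inflIrr_iff hM hPp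
      ⟨0, by rw [hPcen, Subgroup.index_top, pow_zero]⟩]
    intro h
    have h2 : α₂ ∈ blockOf M (α₁ : (G ⧸ K) ⧸ P → ℂ) := h
    rw [hsing, Set.mem_singleton_iff] at h2
    exact hα h2.symm
  -- the character of `P`
  let π : V →* P := (QuotientGroup.mk' K).subgroupMap V
  have hπ : Function.Surjective π := (QuotientGroup.mk' K).subgroupMap_surjective V
  let φb : P →* ℂˣ := π.liftOfSurjective hπ ⟨φ, fun v hv => by
    have h1 : ((v : G) : G ⧸ K) = 1 := congrArg Subtype.val (MonoidHom.mem_ker.1 hv)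
    obtain ⟨w, hw, he⟩ := (QuotientGroup.eq_one_iff (v : G)).1 h1
    rwa [← Subtype.ext (he : (w : G) = v)]⟩
  have hφb : ∀ v : V, φb (π v) = φ v := fun v => π.liftOfRightInverse_comp_apply _ _ _ v
  have hinvb : ∀ (x : G ⧸ K) (w : P),
      φb ⟨x * w * x⁻¹, Subgroup.Normal.conj_mem ‹_› (w : G ⧸ K) w.2 x⟩ = φb w := fun x w => by
    have hxc : x ∈ Subgroup.centralizer (P : Set (G ⧸ K)) := hPcen ▸ Subgroup.mem_top x
    congr 1
    refine Subtype.ext ?_
    simp only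
    rw [← Subgroup.mem_centralizer_iff.1 hxc w w.2, mul_inv_cancel_right]
  have key : ∀ {η : IrrCharacter G} {η' : IrrCharacter (G ⧸ K)},
      (∀ g : G, (η : G → ℂ) g = (η' : G ⧸ K → ℂ) (g : G ⧸ K)) →
      ∃ ψ' : IrrCharacter (G ⧸ K), SameBlock M (η' : G ⧸ K → ℂ) (ψ' : G ⧸ K → ℂ) ∧
        SameBlock M (η : G → ℂ) (Quot.inflIrr ψ' : G → ℂ) ∧
        ∀ v : V, (Quot.inflIrr ψ' : G → ℂ) v = (Quot.inflIrr ψ' : G → ℂ) 1 * (φ v : ℂ) := by
    intro η η' he
    obtain ⟨ψ', hψ', hover⟩ := exists_over_of_pGroup hM (isPBlock_blockOf (M := M) η') P hPp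
      (⟨fun w => (φb w : ℂ), isIrrCharacter_ofHom φb⟩ : IrrCharacter P)
    refine ⟨ψ', hψ', ?_, fun v => ?_⟩
    · have e : Quot.inflIrr η' = η := Subtype.ext (funext fun g => (he g).symm)
      intro g
      rw [← e, Quot.centralChar_inflIrr, Quot.centralChar_inflIrr, ← mul_sub]
      exact memLocalIdeal_mul_left (natCast_mem_localRing _)
        ((hψ' : SameBlock M (η' : G ⧸ K → ℂ) (ψ' : G ⧸ K → ℂ)) _)
    · rw [← hφb v]
      exact apply_of_over φb hinvb ψ'.2 hover (π v)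
  obtain ⟨ψ₁, a₁, b₁, c₁⟩ := key hη₁
  obtain ⟨ψ₂, a₂, b₂, c₂⟩ := key hη₂
  refine ⟨Quot.inflIrr ψ₁, Quot.inflIrr ψ₂, fun h => hsep fun g => ?_, b₁, b₂, c₁, c₂⟩
  have h' : ψ₁ = ψ₂ := Subtype.ext (funext fun x => by
    obtain ⟨y, rfl⟩ := QuotientGroup.mk_surjective x
    exact congrFun (congrArg Subtype.val h) y)
  subst h'
  exact memLocalIdeal_sub_trans (a₁ g) (memLocalIdeal_sub_comm (a₂ g))

end Central

end CfsgLib.ThreeNormal
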