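import Cfsg.Agent.BlocksB.ThreeNormal.Arith
import Cfsg.Agent.BlocksB.ThreeNormal.Chars
import Cfsg.Agent.BlocksB.ThreeNormal.Tools
import Cfsg.Agent.BlocksB.LocalSymm.Main
import Cfsg.Agent.Blocks.StabilizerCorr
import Cfsg.Agent.Blocks.SectionCount

/-!
# A block with at most three characters and elementary normal defect group has cyclic defect group
-/

set_option autoImplicit false
set_option linter.style.haveILetI false
set_option linter.unusedSectionVars false

namespace CfsgLib.ThreeNormal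

open Cfsg Finset CfsgLib.Block CfsgLib.Block.Chr CfsgLib.Char

universe u

variable {X : Type u} [Group X] [Fintype X] {M : Ideal AlgInt} [M.IsPrime] {p : ℕ} [Fact p.Prime]

/-- The values of a character on a subgroup are a multiple of those of a linear character. -/
def Lies {V C : Subgroup X} (hVC : V ≤ C) (φ : V →* ℂˣ) (ζ : IrrCharacter C) : Prop :=
  ∀ v : V, (ζ : C → ℂ) ⟨v, hVC v.2⟩ = (ζ : C → ℂ) 1 * (φ v : ℂ)

theorem Lies.unique {V C : Subgroup X} {hVC : V ≤ C} {φ ψ : V →* ℂˣ} {ζ : IrrCharacter C}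
    (h : Lies hVC φ ζ) (h' : Lies hVC ψ ζ) : φ = ψ :=
  MonoidHom.ext fun v => Units.ext
    (mul_left_cancel₀ (IsIrrCharacter.apply_one_ne_zero ζ.2) ((h v).symm.trans (h' v)))

/-- Precomposition of a linear character of a normal subgroup with conjugation. -/
def conjHom {V : Subgroup X} [V.Normal] (x : X) (φ : V →* ℂˣ) : V →* ℂˣ :=
  φ.comp (MulAut.conjNormal x : V ≃* V).toMonoidHom

theorem conjHom_apply {V : Subgroup X} [V.Normal] (x : X) (φ : V →* ℂˣ) (v : V) :
    conjHom x φ v = φ ⟨x * v * x⁻¹, Subgroup.Normal.conj_mem ‹_› (v : X) v.2 x⟩ :=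
  congrArg φ (Subtype.ext (MulAut.conjNormal_apply x v))

theorem conjHom_conjHom {V : Subgroup X} [V.Normal] (x y : X) (φ : V →* ℂˣ) :
    conjHom y (conjHom x φ) = conjHom (x * y) φ := by
  refine MonoidHom.ext fun v => ?_
  simp only [conjHom, MonoidHom.comp_apply, map_mul]
  rfl

theorem conjHom_one {V : Subgroup X} [V.Normal] (φ : V →* ℂˣ) : conjHom 1 φ = φ := by
  refine MonoidHom.ext fun v => ?_
  simp [conjHom]

theorem Lies.conj {V C : Subgroup X} [V.Normal] [C.Normal] [Fintype C] {hVC : V ≤ C} {φ : V →* ℂˣ}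
    {ζ : IrrCharacter C} (h : Lies hVC φ ζ) (x : X) :
    Lies hVC (conjHom x φ) (conjIrr x ζ) := fun v => by
  rw [conjHom_apply, conjIrr_coe, conjOn_apply, conjOn_apply_one]
  exact h ⟨x * v * x⁻¹, Subgroup.Normal.conj_mem ‹_› (v : X) v.2 x⟩

/-- The main case: the character trivial on the defect group is invariant. -/
theorem core [CharP (Residue M) p] (hM : IsPModular p M) (V : Subgroup X) [V.Normal]
    (hab : ∀ a ∈ V, ∀ c ∈ V, a * c = c * a) (hexp : ∀ a ∈ V, a ^ p = 1) (C : Subgroup X)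
    [C.Normal] [Fintype C] (hC : C = Subgroup.centralizer (V : Set X))
    {b : Set (IrrCharacter X)} (hb : IsPBlock M b) (hbV : IsDefectGroup p M b V)
    (hk : Nat.card b ≤ 3) (θ : IrrCharacter C)
    (hθV : ∀ c : C, (c : X) ∈ V → (θ : C → ℂ) c = (θ : C → ℂ) 1)
    (hθw : (charDegree (θ : C → ℂ)).factorization p + (Nat.card V).factorization p =
      (Nat.card C).factorization p)
    (hinv : inertia (θ : C → ℂ) = ⊤) {χ₀ : IrrCharacter X} (hχ₀ : χ₀ ∈ b)
    (hover : classInner (fun c : C => (χ₀ : X → ℂ) c) (θ : C → ℂ) ≠ 0) : IsCyclic V := by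
  classical
  haveI : Fintype V := Fintype.ofFinite _
  haveI := finite_irrCharacter X
  have hp : p.Prime := Fact.out
  have hVp : IsPGroup p V := IsPGroup.of_card (p := p) (n := blockDefect p b)
    (card_defectGroup hM hb hbV)
  by_cases hV1 : V = ⊥
  · subst hV1; infer_instance
  have hVC : V ≤ C := hC ▸ fun a ha => Subgroup.mem_centralizer_iff.2 fun c hc => hab c hc a ha
  let V' : Subgroup C := V.subgroupOf C
  let e : V' ≃* V := Subgroup.subgroupOfEquivOfLe hVC
  have hV'p : IsPGroup p V' := hVp.of_equiv e.symm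
  have hcen : Subgroup.centralizer (V' : Set C) = ⊤ := by
    refine eq_top_iff.2 fun x _ => Subgroup.mem_centralizer_iff.2 fun v hv => Subtype.ext ?_
    have hx : (x : X) ∈ Subgroup.centralizer (V : Set X) := hC ▸ x.2
    exact Subgroup.mem_centralizer_iff.1 hx v hv
  let c : Set (IrrCharacter C) := blockOf M (θ : C → ℂ)
  have hc : IsPBlock M c := isPBlock_blockOf θ
  have hθc : θ ∈ c := mem_blockOf_self θ
  have hcD : IsDefectGroup p M c V' :=
    isDefectGroup_of_weight hM hV'p hcen θ (fun v hv => hθV v hv)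
      (by rw [Nat.card_congr e.toEquiv]; exact hθw)
  obtain ⟨hexφ, hmem'⟩ := members_central hM hV'p hcen hc hcD
  have hmem : ∀ φ : V →* ℂˣ, ∃! ζ, ζ ∈ c ∧ Lies hVC φ ζ := by
    intro φ
    obtain ⟨ζ, ⟨hζ, hζφ⟩, hu⟩ := hmem' (φ.comp e.toMonoidHom)
    refine ⟨ζ, ⟨hζ, fun v => ?_⟩, fun η hη => hu η ⟨hη.1, fun v => hη.2 (e v)⟩⟩
    have := hζφ (e.symm v)
    simp only [MonoidHom.comp_apply, MulEquiv.coe_toMonoidHom, e.apply_symm_apply] at this
    exact this
  have hlies : ∀ ζ ∈ c, ∃ φ, Lies hVC φ ζ := by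
    intro ζ hζ
    obtain ⟨φ, hφ⟩ := hexφ ζ hζ
    exact ⟨φ.comp e.symm.toMonoidHom, fun v => hφ (e.symm v)⟩
  have hθlies : Lies hVC 1 θ := fun v => by simp [hθV ⟨v, hVC v.2⟩ v.2]
  have hconj : ∀ (x : X), ∀ ζ ∈ c, conjIrr x ζ ∈ c := by
    intro x ζ hζ
    have h1 := sameBlock_conjIrr (M := M) x (hζ : SameBlock M (θ : C → ℂ) (ζ : C → ℂ))
    rwa [show conjIrr x θ = θ from Subtype.ext ((mem_inertia _ x).1 (hinv ▸ Subgroup.mem_top x))]
      at h1
  have horb : orbitUnion (G := X) c = c := by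
    ext ζ
    exact ⟨fun ⟨g, η, hη, he⟩ => he ▸ hconj g η hη, fun h => self_mem_orbitUnion h⟩
  have hin : ∀ (χ : IrrCharacter X) (ζ : IrrCharacter C), ζ ∈ c →
      classInner (fun n : C => (χ : X → ℂ) n) (ζ : C → ℂ) ≠ 0 → χ ∈ b := by
    intro χ ζ hζ hc'
    refine (sameBlock_iff_mem hb hχ₀).2 fun g => ?_
    by_cases hg : g ∈ C
    · exact memLocalIdeal_sub_trans
        (covering_cong hb hc hχ₀ hθc hover hχ₀ hθc ⟨g, hg⟩)
        (memLocalIdeal_sub_comm (covering_cong (isPBlock_blockOf χ) hc (mem_blockOf_self χ) hζ hc'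
          (mem_blockOf_self χ) hθc ⟨g, hg⟩))
    · rw [hC] at hg
      exact memLocalIdeal_sub (centralChar_mem_ideal_of_normal hM V hVp χ₀ hg)
        (centralChar_mem_ideal_of_normal hM V hVp χ hg)
  have hcop : ¬ p ∣ C.index := by
    have h := (fong_defect hM hc horb hb ⟨χ₀, hχ₀, θ, hθc, hover⟩ (fun B' hB' hcov => ?_) hbV).1
    · rwa [sup_eq_right.2 hVC] at h
    · obtain ⟨χ, hχ, ζ, hζ, hζc⟩ := hcov
      rw [eq_blockOf_of_mem hB' hχ, ← eq_blockOf_of_mem hb (hin χ ζ hζ hζc)]
  -- constituents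
  have hsame : ∀ {χ : IrrCharacter X} {ζ η : IrrCharacter C},
      classInner (fun n : C => (χ : X → ℂ) n) (ζ : C → ℂ) ≠ 0 →
      classInner (fun n : C => (χ : X → ℂ) n) (η : C → ℂ) ≠ 0 → ∃ x, η = conjIrr x ζ := by
    intro χ ζ η h h'
    obtain ⟨x, hx⟩ := mem_conjOrbit.1 (mem_conjOrbit_of_constituent χ.2 ζ.2 η.2 h h')
    exact ⟨x, Subtype.ext hx⟩
  have hnotθ : ∀ {φ : V →* ℂˣ} {ζ : IrrCharacter C} {χ : IrrCharacter X}, φ ≠ 1 →
      Lies hVC φ ζ → classInner (fun n : C => (χ : X → ℂ) n) (ζ : C → ℂ) ≠ 0 →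
      classInner (fun n : C => (χ : X → ℂ) n) (θ : C → ℂ) = 0 := by
    intro φ ζ χ hφ hl hc'
    by_contra h
    obtain ⟨x, hx⟩ := hsame hc' h
    have h1 := (hl.conj x)
    rw [← hx] at h1
    have h2 := Lies.unique h1 hθlies
    refine hφ ?_
    rw [← conjHom_one φ, ← mul_inv_cancel x, ← conjHom_conjHom, h2]
    exact MonoidHom.ext fun v => rfl
  by_cases huniq : ∀ χ χ' : IrrCharacter X,
      classInner (fun n : C => (χ : X → ℂ) n) (θ : C → ℂ) ≠ 0 →
      classInner (fun n : C => (χ' : X → ℂ) n) (θ : C → ℂ) ≠ 0 → χ = χ'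
  · -- one character over `θ`: the rank is one
    have htf := fully_ramified_tfae χ₀.2 θ.2 hover
    obtain ⟨hvan, -⟩ := htf.1.1 (htf.2.2 ⟨hinv, fun ψ hψ hψc => congrArg Subtype.val
      (huniq ⟨ψ, hψ⟩ χ₀ ((classInner_indFun_ne_zero_iff (IsIrrCharacter.isClassFunction hψ) _).1 hψc)
        hover)⟩)
    have hres := restrict_eq_smul_of_invariant χ₀.2 θ.2 hinv hover
    have hker : ∀ v ∈ V, (χ₀ : X → ℂ) v = (χ₀ : X → ℂ) 1 := by
      intro v hv
      have e1 := congrFun hres ⟨v, hVC hv⟩
      have e2 := congrFun hres 1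
      simp only [Pi.smul_apply, smul_eq_mul, OneMemClass.coe_one] at e1 e2
      rw [e1, e2, hθV ⟨v, hVC hv⟩ hv]
    obtain ⟨φ₀, hφ₀⟩ := exists_quotient_irr V χ₀ hker
    haveI : Fintype (X ⧸ V) := Fintype.ofFinite _
    letI := irrFintype (G := X ⧸ V)
    have hinfl : ∀ ψ : IrrCharacter (X ⧸ V), Quot.inflIrr ψ ∈ b → ψ = φ₀ := by
      intro ψ hψ
      obtain ⟨z, hz, hzc⟩ := exists_constituent_restrict (N := C) (Quot.inflIrr ψ).2
      have hzm : (⟨z, hz⟩ : IrrCharacter C) ∈ c :=
        horb ▸ mem_orbitUnion_of_covering hb hc hχ₀ hψ hθc hover (ψ := ⟨z, hz⟩) hzc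
      obtain ⟨φ, hφ⟩ := hlies _ hzm
      have hφ1 : φ = 1 := by
        by_contra hne
        have h1 : classInner (fun v : V => z ⟨v, hVC v.2⟩) (fun v => (φ v : ℂ)) ≠ 0 := by
          rw [show (fun v : V => z ⟨v, hVC v.2⟩) = z 1 • fun v : V => (φ v : ℂ) from funext hφ,
            classInner_smul_left, IsIrrCharacter.classInner_self (isIrrCharacter_ofHom φ), mul_one]
          exact IsIrrCharacter.apply_one_ne_zero hz
        have h2 := constituent_trans (Subgroup.inclusion hVC)
          (IsCharacter.restrict (IsIrrCharacter.isCharacter (Quot.inflIrr ψ).2) C) hz hzc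
          (isIrrCharacter_ofHom φ) h1
        refine h2 ?_
        have hconst : (fun v : V => (Quot.inflIrr ψ : X → ℂ) ((Subgroup.inclusion hVC v : C) : X)) =
            (Quot.inflIrr ψ : X → ℂ) 1 • fun v : V => (((1 : V →* ℂˣ) v : ℂˣ) : ℂ) := by
          funext v
          simp only [Quot.inflIrr, Subgroup.coe_inclusion, Function.comp_apply,
            (QuotientGroup.eq_one_iff (v : X)).2 v.2, QuotientGroup.mk_one, Pi.smul_apply,
            MonoidHom.one_apply, Units.val_one, smul_eq_mul, mul_one]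
        rw [hconst, classInner_smul_left, IsIrrCharacter.classInner_of_ne (isIrrCharacter_ofHom _)
          (isIrrCharacter_ofHom φ) (fun h => hne (MonoidHom.ext fun v => Units.ext
            (congrFun h v).symm)), mul_zero]
      subst hφ1
      have hzθ : (⟨z, hz⟩ : IrrCharacter C) = θ := (hmem 1).unique ⟨hzm, hφ⟩ ⟨hθc, hθlies⟩
      have h3 := huniq (Quot.inflIrr ψ) χ₀ (by rw [← hzθ]; exact hzc) hover
      refine Subtype.ext (funext fun q => ?_)
      obtain ⟨g, rfl⟩ := QuotientGroup.mk_surjective q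
      rw [← hφ₀, ← h3]
      rfl
    have hreg : ∀ χ ∈ b, ∃ α : ℂ, pRegularPart p (χ : X → ℂ) = α • pRegularPart p (χ₀ : X → ℂ) := by
      intro χ hχ
      let h : X ⧸ V → ℂ := fun q =>
        ∑ g ∈ univ.filter (fun g : X => (g : X ⧸ V) = q), regPart p χ.1 g
      have hlift : ∀ g k : X, ¬ p ∣ orderOf g → ¬ p ∣ orderOf k → (k : X ⧸ V) = (g : X ⧸ V) →
          ∃ w ∈ V, w * g * w⁻¹ = k := by
        intro g k hg hk' he
        have hv : k * g⁻¹ ∈ V := by
          rw [← QuotientGroup.eq_one_iff, QuotientGroup.mk_mul, QuotientGroup.mk_inv, he,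
            mul_inv_cancel]
        obtain ⟨w, hw, he'⟩ := exists_conj_of_lift hp hab hexp hg hv (by rwa [inv_mul_cancel_right])
        exact ⟨w, hw, he'.trans (inv_mul_cancel_right _ _)⟩
      have hcl : IsClassFunction (X ⧸ V) h := by
        intro q r
        obtain ⟨d, rfl⟩ := QuotientGroup.mk_surjective r
        refine sum_nbij' (fun g => d⁻¹ * g * d) (fun g => d * g * d⁻¹) ?_ ?_ (fun g _ => by group)
          (fun g _ => by group) fun g _ => ?_
        · intro g hg
          refine mem_filter.2 ⟨mem_univ _, ?_⟩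
          rw [QuotientGroup.mk_mul, QuotientGroup.mk_mul, (mem_filter.1 hg).2, QuotientGroup.mk_inv]
          group
        · intro g hg
          refine mem_filter.2 ⟨mem_univ _, ?_⟩
          rw [QuotientGroup.mk_mul, QuotientGroup.mk_mul, (mem_filter.1 hg).2, QuotientGroup.mk_inv]
        · have := isClassFunction_irr χ g d⁻¹
          rw [inv_inv] at this
          have ho : orderOf (d⁻¹ * g * d) = orderOf g := by
            simpa using orderOf_injective (MulAut.conj d⁻¹).toMonoidHom (MulAut.conj d⁻¹).injective g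
          by_cases hg : p ∣ orderOf g
          · rw [regPart_of_dvd hg, regPart_of_dvd (ho ▸ hg)]
          · rw [regPart_of_not_dvd hg, regPart_of_not_dvd (ho ▸ hg), this]
      have hinner : ∀ ψ : IrrCharacter (X ⧸ V), ψ ≠ φ₀ → classInner h ψ.1 = 0 := by
        intro ψ hne
        have h1 : classInner (regPart p χ.1) (Quot.inflIrr ψ).1 = 0 :=
          classInner_regPart_eq_zero hM χ (Quot.inflIrr ψ)
            fun hs => hne (hinfl ψ ((sameBlock_iff_mem hb hχ).2 hs))
        rw [classInner, mul_eq_zero] at h1 ⊢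
        refine Or.inr ?_
        refine Eq.trans ?_ (h1.resolve_left (inv_ne_zero (Nat.cast_ne_zero.2 Nat.card_pos.ne')))
        rw [← sum_fiberwise univ (fun g : X => (g : X ⧸ V))
          (fun g => regPart p χ.1 g * (starRingEnd ℂ) ((Quot.inflIrr ψ).1 g))]
        refine sum_congr rfl fun q _ => ?_
        rw [sum_mul]
        refine sum_congr rfl fun g hg => ?_
        show _ = _ * (starRingEnd ℂ) (ψ.1 (g : X ⧸ V))
        rw [(mem_filter.1 hg).2]
      have hprop : ∀ g : X, h (g : X ⧸ V) = classInner h φ₀.1 * (χ₀ : X → ℂ) g := by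
        intro g
        rw [classFun_expand hcl (g : X ⧸ V), sum_eq_single φ₀, hφ₀]
        · intro ψ _ hne; rw [hinner ψ hne, zero_mul]
        · simp
      refine ⟨classInner h φ₀.1, funext fun g => ?_⟩
      rw [pRegularPart_eq, pRegularPart_eq, Pi.smul_apply, smul_eq_mul]
      by_cases hg : p ∣ orderOf g
      · rw [regPart_of_dvd hg, regPart_of_dvd hg, mul_zero]
      rw [regPart_of_not_dvd hg, regPart_of_not_dvd hg, ← hprop]
      set F := univ.filter (fun k : X => (k : X ⧸ V) = (g : X ⧸ V) ∧ ¬ p ∣ orderOf k) with hF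
      have hsum : h (g : X ⧸ V) = F.card * (χ : X → ℂ) g := by
        rw [← nsmul_eq_mul, ← sum_const]
        refine Eq.symm (Eq.trans (sum_congr rfl fun k hk' => ?_)
          (sum_subset (fun k hk' => ?_) fun k hk' hk'' => ?_))
        · obtain ⟨hke, hkr⟩ := (mem_filter.1 hk').2
          obtain ⟨w, -, hw⟩ := hlift g k hg hkr hke
          rw [regPart_of_not_dvd hkr, ← hw]
          exact (isClassFunction_irr χ g w).symm
        · exact mem_filter.2 ⟨mem_univ _, (mem_filter.1 hk').2.1⟩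
        · rw [regPart_of_dvd]
          by_contra hd
          exact hk'' (mem_filter.2 ⟨mem_univ _, (mem_filter.1 hk').2, hd⟩)
      have hFne : (F.card : ℂ) ≠ 0 :=
        Nat.cast_ne_zero.2 (card_ne_zero_of_mem (mem_filter.2 ⟨mem_univ g, rfl, hg⟩))
      by_cases hgC : g ∈ C
      · have hF1 : F = {g} := eq_singleton_iff_unique_mem.2
          ⟨mem_filter.2 ⟨mem_univ g, rfl, hg⟩, fun k hk' => by
            obtain ⟨hke, hkr⟩ := (mem_filter.1 hk').2
            obtain ⟨w, hw, hwe⟩ := hlift g k hg hkr hke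
            rw [← hwe, Subgroup.mem_centralizer_iff.1 (hC ▸ hgC) w hw, mul_inv_cancel_right]⟩
        rw [hsum, hF1, card_singleton, Nat.cast_one, one_mul]
      · have h0 := hprop g
        rw [hvan g hgC, mul_zero, hsum, mul_eq_zero] at h0
        rw [h0.resolve_left hFne, hprop, hvan g hgC, mul_zero]
    have hl : blockRank p b = 1 := by
      have hne : pRegularPart p (χ₀ : X → ℂ) ≠ 0 := fun h0 => by
        have := congrFun h0 1
        rw [pRegularPart_eq, regPart_of_not_dvd (by rw [orderOf_one]; exact hp.not_dvd_one),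
          Pi.zero_apply] at this
        exact IsIrrCharacter.apply_one_ne_zero χ₀.2 this
      have hspan : Submodule.span ℂ ((fun χ : IrrCharacter X => pRegularPart p (χ : X → ℂ)) '' b) =
          Submodule.span ℂ {pRegularPart p (χ₀ : X → ℂ)} := by
        refine le_antisymm (Submodule.span_le.2 ?_) (Submodule.span_mono ?_)
        · rintro _ ⟨χ, hχ, rfl⟩
          obtain ⟨α, hα⟩ := hreg χ hχ
          exact Submodule.mem_span_singleton.2 ⟨α, hα.symm⟩
        · exact Set.singleton_subset_iff.2 ⟨χ₀, hχ₀, rfl⟩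
      rw [blockRank, hspan]
      exact finrank_span_singleton hne
    obtain ⟨-, hcard, -⟩ := CfsgLib.LocalSymm.rank_one_small hM hb hbV hV1 hl (by omega)
    obtain ⟨k, hk'⟩ := IsPGroup.iff_card.1 hVp
    refine isCyclic_of_card_dvd_prime (p := p) ?_
    rcases Nat.lt_or_ge k 2 with hk2 | hk2
    · rw [hk']
      exact (pow_dvd_pow p (by omega : k ≤ 1)).trans (pow_one p).dvd
    · have := Nat.pow_le_pow_left hp.two_le k
      have := Nat.pow_le_pow_right (show 0 < 2 by norm_num) hk2
      omega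
  -- two characters over `θ`
  push Not at huniq
  obtain ⟨χ₁, χ₂, h₁, h₂, h12⟩ := huniq
  have hfour : ∀ q r s t : IrrCharacter X, q ∈ b → r ∈ b → s ∈ b → t ∈ b →
      q ≠ r → q ≠ s → q ≠ t → r ≠ s → r ≠ t → s ≠ t → False := by
    intro q r s t hq hr hs ht a1 a2 a3 a4 a5 a6
    haveI : Fintype b := Fintype.ofFinite b
    have hle : ({q, r, s, t} : Finset (IrrCharacter X)).card ≤ b.toFinset.card :=
      card_le_card fun z hz => by
        simp only [mem_insert, mem_singleton] at hz
        rcases hz with rfl | rfl | rfl | rfl <;> simpa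
    rw [Set.toFinset_card, ← Nat.card_eq_fintype_card] at hle
    have h4 : ({q, r, s, t} : Finset (IrrCharacter X)).card = 4 := by simp [a1, a2, a3, a4, a5, a6]
    omega
  by_contra hncyc
  choose th hth hthu using hmem
  choose up hup using fun φ => exists_irr_over C (th φ)
  have hupb : ∀ φ, up φ ∈ b := fun φ => hin _ _ (hth φ).1 (hup φ)
  have hupθ : ∀ φ, φ ≠ 1 → classInner (fun n : C => (up φ : X → ℂ) n) (θ : C → ℂ) = 0 :=
    fun φ hφ => hnotθ hφ (hth φ).2 (hup φ)
  have hall : ∀ {φ ψ : V →* ℂˣ} {χ χ' : IrrCharacter X}, φ ≠ 1 → ψ ≠ 1 →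
      classInner (fun n : C => (χ : X → ℂ) n) (th φ : C → ℂ) ≠ 0 →
      classInner (fun n : C => (χ' : X → ℂ) n) (th ψ : C → ℂ) ≠ 0 → χ = χ' := by
    intro φ ψ χ χ' hφ hψ hc' hc''
    by_contra hne
    have a := hnotθ hφ (hth φ).2 hc'
    have a' := hnotθ hψ (hth ψ).2 hc''
    exact hfour χ₁ χ₂ χ χ' (hin _ _ hθc h₁) (hin _ _ hθc h₂) (hin _ _ (hth φ).1 hc')
      (hin _ _ (hth ψ).1 hc'') h12 (fun h => h₁ (h ▸ a)) (fun h => h₁ (h ▸ a'))
      (fun h => h₂ (h ▸ a)) (fun h => h₂ (h ▸ a')) hne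
  letI : CommGroup V :=
    { (inferInstance : Group V) with mul_comm := fun a d => Subtype.ext (hab a a.2 d d.2) }
  haveI : NeZero (Monoid.exponent V : ℂ) :=
    ⟨Nat.cast_ne_zero.2 Monoid.exponent_ne_zero_of_finite⟩
  have hWcard : Nat.card (V →* ℂˣ) = Nat.card V :=
    CommGroup.card_monoidHom_of_hasEnoughRootsOfUnity V ℂ
  haveI : Finite (V →* ℂˣ) := Nat.finite_of_card_ne_zero (hWcard ▸ Nat.card_pos.ne')
  obtain ⟨φe, hφe⟩ : ∃ φ : V →* ℂˣ, φ ≠ 1 := by
    haveI : Nontrivial V := (Subgroup.nontrivial_iff_ne_bot V).2 hV1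
    haveI : Nontrivial (V →* ℂˣ) :=
      Finite.one_lt_card_iff_nontrivial.1 (hWcard ▸ Finite.one_lt_card)
    exact exists_ne 1
  have hTwo : TwoOver (θ : C → ℂ) (χ₁ : X → ℂ) (χ₂ : X → ℂ) := by
    refine ⟨θ.2, hinv, χ₁.2, χ₂.2, fun h => h12 (Subtype.ext h), h₁, h₂, fun χ hχ hχc => ?_⟩
    by_contra hcon
    push Not at hcon
    have a := hupθ φe hφe
    exact hfour χ₁ χ₂ ⟨χ, hχ⟩ (up φe) (hin _ _ hθc h₁) (hin _ _ hθc h₂) (hin _ _ hθc hχc)
      (hupb φe) h12 (fun h => hcon.1 (congrArg Subtype.val h).symm) (fun h => h₁ (h ▸ a))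
      (fun h => hcon.2 (congrArg Subtype.val h).symm) (fun h => h₂ (h ▸ a))
      (fun h => hχc (by rw [← h] at a; exact a))
  -- uniqueness above `θ` in the point stabilisers
  have hstab : ∀ {φ : V →* ℂˣ}, φ ≠ 1 → ∀ x : X,
      x ∈ inertia (th φ : C → ℂ) ↔ conjHom x φ = φ := by
    intro φ _ x
    constructor
    · intro h
      have h1 := (hth φ).2.conj x
      rw [show conjIrr x (th φ) = th φ from Subtype.ext ((mem_inertia _ x).1 h)] at h1
      exact Lies.unique h1 (hth φ).2
    · intro h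
      have h1 := (hth φ).2.conj x
      rw [h] at h1
      exact (mem_inertia _ x).2 (congrArg Subtype.val (hthu φ _ ⟨hconj x _ (hth φ).1, h1⟩))
  have hsquare : ∀ {φ : V →* ℂˣ}, φ ≠ 1 → ∃ f, C.relIndex (inertia (th φ : C → ℂ)) = f ^ 2 := by
    intro φ hφ
    set H := inertia (th φ : C → ℂ) with hHdef
    have hCH : C ≤ H := le_inertia (isClassFunction_irr (th φ))
    haveI : Fintype H := Fintype.ofFinite _
    let eH : C.subgroupOf H ≃* C := Subgroup.subgroupOfEquivOfLe hCH
    let eV : V.subgroupOf H ≃* V := Subgroup.subgroupOfEquivOfLe (hVC.trans hCH)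
    haveI : Fintype (C.subgroupOf H) := Fintype.ofFinite _
    haveI : Fintype (V.subgroupOf H) := Fintype.ofFinite _
    let θ' : IrrCharacter (C.subgroupOf H) := irrComp eH θ
    have hI' : inertia (θ' : C.subgroupOf H → ℂ) = ⊤ := inertia_eq_top fun t n => by
      have := (mem_inertia_iff (θ : C → ℂ) (t : X)).1 (hinv ▸ Subgroup.mem_top _) (eH n)
      exact this
    refine sq_index_of_unique θ'.2 hI' fun χ χ' hχ hχ' hov hov' => ?_
    by_contra hne
    have hov := hov inferInstance
    have hov' := hov' inferInstance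
    have hrk : ∀ {η : H → ℂ}, IsIrrCharacter H η →
        classInner (fun n : C.subgroupOf H => η n) (θ' : C.subgroupOf H → ℂ) ≠ 0 →
        (∀ v ∈ V.subgroupOf H, η v = η 1) ∧ ∃ m : ℕ, η 1 = (m : ℂ) * (θ : C → ℂ) 1 := by
      intro η hη hηc
      have hr := restrict_eq_smul_of_invariant hη θ'.2 hI' hηc
      obtain ⟨m, hm⟩ := IsCharacter.exists_classInner_eq_natCast
        (IsCharacter.restrict (IsIrrCharacter.isCharacter hη) (C.subgroupOf H)) θ'.2
      rw [hm] at hr
      have e1 := congrFun hr 1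
      simp only [Pi.smul_apply, smul_eq_mul, OneMemClass.coe_one, θ', irrComp_coe, map_one] at e1
      refine ⟨fun v hv => ?_, m, e1⟩
      have e2 := congrFun hr ⟨v, hVC hv⟩
      simp only [Pi.smul_apply, smul_eq_mul, θ', irrComp_coe] at e2
      rw [e2, e1]
      congr 1
      exact hθV _ hv
    obtain ⟨hk₁, m, hm⟩ := hrk hχ hov
    obtain ⟨hk₂, -⟩ := hrk hχ' hov'
    have hw : (Nat.card H).factorization p ≤ (charDegree χ).factorization p +
        (Nat.card (V.subgroupOf H)).factorization p := by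
      obtain ⟨d, hd0, hd⟩ := IsIrrCharacter.exists_degree θ.2
      have hdeg : charDegree χ = m * charDegree (θ : C → ℂ) := by
        apply Nat.cast_injective (R := ℂ)
        rw [Nat.cast_mul, ← (irr_one θ).1, ← (irr_one (⟨χ, hχ⟩ : IrrCharacter H)).1]
        exact hm
      have hm0 : m ≠ 0 := fun h0 => IsIrrCharacter.apply_one_ne_zero hχ (by
        rw [hm, h0, Nat.cast_zero, zero_mul])
      rw [hdeg, Nat.factorization_mul hm0 (irr_one θ).2.ne', Finsupp.add_apply,
        Nat.card_congr eV.toEquiv, ← (C.subgroupOf H).card_mul_index, Nat.card_congr eH.toEquiv,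
        Nat.factorization_mul Nat.card_pos.ne' Subgroup.index_ne_zero_of_finite, Finsupp.add_apply,
        Nat.factorization_eq_zero_of_not_dvd (n := (C.subgroupOf H).index) fun h =>
          hcop (h.trans (Subgroup.relIndex_dvd_index_of_normal C H))]
      omega
    let φH : V.subgroupOf H →* ℂˣ := φ.comp eV.toMonoidHom
    have hφH : ∀ (t : H) (v : V.subgroupOf H),
        φH ⟨t * v * t⁻¹, Subgroup.Normal.conj_mem inferInstance (v : H) v.2 t⟩ = φH v := by
      intro t v
      have h1 := DFunLike.congr_fun ((hstab hφ (t : X)).1 t.2) (eV v)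
      rw [conjHom_apply] at h1
      exact h1
    obtain ⟨ψ₁, ψ₂, hψne, hb₁, hb₂, hv₁, hv₂⟩ := exists_over_pair hM
      (hVp.of_equiv eV.symm) φH hφH (η₁ := ⟨χ, hχ⟩) (η₂ := ⟨χ', hχ'⟩)
      (fun h => hne (congrArg Subtype.val h)) hk₁ hk₂ hw
    have hget : ∀ {η ψ : IrrCharacter H},
        classInner (fun n : C.subgroupOf H => (η : H → ℂ) n) (θ' : C.subgroupOf H → ℂ) ≠ 0 →
        SameBlock M (η : H → ℂ) (ψ : H → ℂ) →
        (∀ v : V.subgroupOf H, (ψ : H → ℂ) v = (ψ : H → ℂ) 1 * (φH v : ℂ)) →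
        classInner (fun n : C => (ψ : H → ℂ) (Subgroup.inclusion hCH n)) (th φ : C → ℂ) ≠ 0 := by
      intro η ψ hηc hsb hψv
      obtain ⟨z, hz, hzc⟩ := exists_constituent_restrict (N := C.subgroupOf H) ψ.2
      have hzm := mem_orbitUnion_of_covering (isPBlock_blockOf η)
        (isPBlock_blockOf (M := M) θ') (mem_blockOf_self η) hsb (mem_blockOf_self θ') hηc
        (ψ := ⟨z, hz⟩) hzc
      obtain ⟨t, η', hη', hze⟩ := hzm
      have ht : t ∈ inertia (θ' : C.subgroupOf H → ℂ) := by rw [hI']; trivial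
      have hzb : (⟨z, hz⟩ : IrrCharacter (C.subgroupOf H)) ∈
          blockOf M (θ' : C.subgroupOf H → ℂ) := by
        have h1 := sameBlock_conjIrr (M := M) t
          (hη' : SameBlock M (θ' : C.subgroupOf H → ℂ) (η' : C.subgroupOf H → ℂ))
        rwa [show conjIrr t θ' = θ' from Subtype.ext ((mem_inertia _ t).1 ht),
          ← hze] at h1
      rw [blockOf_irrComp] at hzb
      obtain ⟨ζ, hζ, hζe⟩ := hzb
      obtain ⟨φ', hφ'⟩ := hlies ζ hζ
      have hVHC : V.subgroupOf H ≤ C.subgroupOf H := fun v hv => hVC hv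
      let μ : V.subgroupOf H →* ℂˣ := φ'.comp eV.toMonoidHom
      have h1 : classInner (fun v : V.subgroupOf H => z (Subgroup.inclusion hVHC v))
          (fun v => (μ v : ℂ)) ≠ 0 := by
        have hzv : (fun v : V.subgroupOf H => z (Subgroup.inclusion hVHC v)) =
            z 1 • fun v => (μ v : ℂ) := by
          have hzf : z = fun x => (ζ : C → ℂ) (eH x) := (congrArg Subtype.val hζe).symm
          funext v
          rw [Pi.smul_apply, smul_eq_mul, hzf]
          simp only [map_one]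
          exact hφ' (eV v)
        rw [hzv, classInner_smul_left, IsIrrCharacter.classInner_self (isIrrCharacter_ofHom μ),
          mul_one]
        exact IsIrrCharacter.apply_one_ne_zero hz
      have h2 := constituent_trans (Subgroup.inclusion hVHC)
        (IsCharacter.restrict (IsIrrCharacter.isCharacter ψ.2) (C.subgroupOf H)) hz hzc
        (isIrrCharacter_ofHom μ) h1
      have hμ : μ = φH := by
        by_contra hne'
        refine h2 ?_
        rw [show (fun v : V.subgroupOf H => (ψ : H → ℂ) ((Subgroup.inclusion hVHC v :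
            C.subgroupOf H) : H)) = (ψ : H → ℂ) 1 • fun v => (φH v : ℂ) from funext hψv,
          classInner_smul_left, IsIrrCharacter.classInner_of_ne (isIrrCharacter_ofHom φH)
            (isIrrCharacter_ofHom μ) (fun h => hne' (MonoidHom.ext fun v => Units.ext
              (congrFun h v).symm)), mul_zero]
      have hφeq : φ' = φ := MonoidHom.ext fun v => by
        simpa [μ, φH] using DFunLike.congr_fun hμ (eV.symm v)
      have hζt : ζ = th φ := hthu φ ζ ⟨hζ, hφeq ▸ hφ'⟩
      have hzf : z = pullBack (T := H) (th φ : C → ℂ) := by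
        rw [← hζt]; exact (congrArg Subtype.val hζe).symm
      rw [← classInner_pullBack hCH]
      rw [hzf] at hzc
      exact hzc
    have g₁ := hget (η := ⟨χ, hχ⟩) hov hb₁ hv₁
    have g₂ := hget (η := ⟨χ', hχ'⟩) hov' hb₂ hv₂
    obtain ⟨i₁, m₁⟩ := isIrrCharacter_indFun_of_inertia hCH (th φ).2 hHdef.symm ψ₁.2 g₁
    obtain ⟨i₂, m₂⟩ := isIrrCharacter_indFun_of_inertia hCH (th φ).2 hHdef.symm ψ₂.2 g₂
    exact hψne (Subtype.ext (indFun_injective_of_inertia hCH (th φ).2 hHdef.symm ψ₁.2 ψ₂.2 g₁ g₂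
      (congrArg Subtype.val (hall (χ := ⟨_, i₁⟩) (χ' := ⟨_, i₂⟩) hφ hφ
        (by rwa [m₁]) (by rwa [m₂])))))
  -- the linear group
  obtain ⟨a, d, ha, hd, hcardE, hra, -, -⟩ := hTwo.exists_mult
  have hpW : ∀ φ : Additive (V →* ℂˣ), p • φ = 0 := fun φ => by
    apply Additive.toMul.injective
    change φ.toMul ^ p = (1 : V →* ℂˣ)
    refine MonoidHom.ext fun v => ?_
    rw [MonoidHom.pow_apply, MonoidHom.one_apply, ← map_pow,
      show v ^ p = 1 from Subtype.ext (by simpa using hexp v v.2), map_one]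
  letI : Module (ZMod p) (Additive (V →* ℂˣ)) :=
    AddCommGroup.zmodModule (n := p) (G := Additive (V →* ℂˣ)) hpW
  have hcomp : ∀ (x : X) (φ ψ : V →* ℂˣ), conjHom x (φ * ψ) = conjHom x φ * conjHom x ψ :=
    fun x φ ψ => rfl
  let act : X →* (Additive (V →* ℂˣ) ≃ₗ[ZMod p] Additive (V →* ℂˣ)) :=
    { toFun := fun x =>
        { toFun := fun φ => Additive.ofMul (conjHom x⁻¹ φ.toMul)
          invFun := fun φ => Additive.ofMul (conjHom x φ.toMul)
          left_inv := fun φ => by simp [conjHom_conjHom, conjHom_one]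
          right_inv := fun φ => by simp [conjHom_conjHom, conjHom_one]
          map_add' := fun φ ψ => congrArg Additive.ofMul (hcomp _ _ _)
          map_smul' := fun k φ => by
            exact ZMod.map_smul (AddMonoidHom.mk' (fun φ : Additive (V →* ℂˣ) =>
              Additive.ofMul (conjHom x⁻¹ φ.toMul))
              (fun φ ψ => congrArg Additive.ofMul (hcomp _ _ _))) k φ }
      map_one' := LinearEquiv.ext fun φ => by
        change Additive.ofMul (conjHom (1 : X)⁻¹ φ.toMul) = φ
        rw [inv_one, conjHom_one, ofMul_toMul]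
      map_mul' := fun x y => LinearEquiv.ext fun φ => by
        change Additive.ofMul (conjHom (x * y)⁻¹ φ.toMul) =
          Additive.ofMul (conjHom x⁻¹ (conjHom y⁻¹ φ.toMul))
        rw [conjHom_conjHom, mul_inv_rev] }
  have hact : ∀ x φ, act x φ = Additive.ofMul (conjHom x⁻¹ φ.toMul) := fun x φ => rfl
  have hkerC : C ≤ act.ker := fun x hx => LinearEquiv.ext fun φ => by
    rw [hact, LinearEquiv.coe_one, id]
    refine Additive.toMul.injective (MonoidHom.ext fun v => ?_)
    rw [toMul_ofMul, conjHom_apply]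
    congr 1
    refine Subtype.ext ?_
    have hx' : x⁻¹ ∈ Subgroup.centralizer (V : Set X) := hC ▸ inv_mem hx
    simp only
    rw [← Subgroup.mem_centralizer_iff.1 hx' v v.2, mul_inv_cancel_right]
  have hfaith : ∀ x, act x = 1 → x ∈ C := by
    intro x hx
    rw [hC, Subgroup.mem_centralizer_iff]
    intro v hv
    by_contra hne
    have hvne : (⟨x⁻¹ * v * x⁻¹⁻¹, Subgroup.Normal.conj_mem ‹V.Normal› v hv x⁻¹⟩ : V) *
        (⟨v, hv⟩ : V)⁻¹ ≠ 1 := fun h1 => hne (by
      have h2 := congrArg Subtype.val (mul_inv_eq_one.1 h1)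
      simp only [inv_inv] at h2
      conv_lhs => rw [← mul_inv_cancel_left x (v * x)]
      rw [← mul_assoc x⁻¹, h2])
    obtain ⟨φ, hφ⟩ := CommGroup.exists_apply_ne_one_of_hasEnoughRootsOfUnity V ℂ hvne
    have h2 := congrArg Additive.toMul (LinearEquiv.congr_fun hx (Additive.ofMul φ))
    rw [hact] at h2
    simp only [toMul_ofMul, LinearEquiv.coe_one, id] at h2
    have h3 := DFunLike.congr_fun h2 (⟨v, hv⟩ : V)
    rw [conjHom_apply] at h3
    exact hφ (by rw [map_mul, h3, map_inv, mul_inv_cancel])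
  let ρ := QuotientGroup.lift C act hkerC
  have hρmk : ∀ x : X, ρ (x : X ⧸ C) = act x := fun x => QuotientGroup.lift_mk' C hkerC x
  have htw : ∀ φ : Additive (V →* ℂˣ), φ ≠ 0 → φ.toMul ≠ 1 := fun φ hφ h =>
    hφ (Additive.toMul.injective h)
  refine Data.absurd' (ρ := ρ) (a := a) (b := d)
    { inj := ?_, two_le := ?_, coprime := ?_, trans := ?_, stab_sq := ?_, pos_left := ha,
      pos_right := hd, card_eq := hcardE,
      unique := fun x y hx hy hcx hcy => hTwo.unique hx hy hcx hcy,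
      integral := fun x hx hCx hpow => hTwo.integral hcardE hra hx hCx hpow }
  · rw [injective_iff_map_eq_one]
    intro q hq
    obtain ⟨x, rfl⟩ := QuotientGroup.mk_surjective q
    exact (QuotientGroup.eq_one_iff x).2 (hfaith x (hρmk x ▸ hq))
  · by_contra hlt
    refine hncyc (isCyclic_of_card_dvd_prime (p := p) ?_)
    haveI : Fintype (Additive (V →* ℂˣ)) := Fintype.ofFinite _
    rw [← hWcard, show Nat.card (V →* ℂˣ) = Nat.card (Additive (V →* ℂˣ)) from rfl,
      Nat.card_eq_fintype_card, Module.card_eq_pow_finrank (K := ZMod p), ZMod.card]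
    exact (pow_dvd_pow p (by omega : Module.finrank (ZMod p) (Additive (V →* ℂˣ)) ≤ 1)).trans
      (pow_one p).dvd
  · rw [← Subgroup.index_eq_card]; exact hcop
  · intro φ ψ hφ hψ
    have heq := hall (htw φ hφ) (htw ψ hψ) (hup φ.toMul) (hup ψ.toMul)
    have h2 := hup φ.toMul
    rw [heq] at h2
    obtain ⟨x, hx⟩ := hsame h2 (hup ψ.toMul)
    refine ⟨((x⁻¹ : X) : X ⧸ C), ?_⟩
    rw [hρmk, hact, inv_inv]
    have h1 := (hth φ.toMul).2.conj x
    rw [← hx] at h1
    rw [Lies.unique h1 (hth ψ.toMul).2, ofMul_toMul]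
  · intro φ hφ
    have hφ1 := htw φ hφ
    obtain ⟨f, hf⟩ := hsquare hφ1
    refine ⟨f, ?_⟩
    rw [← hf]
    set H := inertia (th φ.toMul : C → ℂ) with hHdef
    have hfix : ∀ x : X, ρ (x : X ⧸ C) φ = φ ↔ x ∈ H := fun x => by
      rw [hρmk, hact, ← inv_mem_iff, hHdef, hstab hφ1]
      exact ⟨fun h => congrArg Additive.toMul h, fun h => by rw [h, ofMul_toMul]⟩
    let f' : H →* X ⧸ C := (QuotientGroup.mk' C).comp H.subtype
    have hker : f'.ker = C.subgroupOf H := by
      ext t
      simp [f', MonoidHom.mem_ker, Subgroup.mem_subgroupOf]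
    rw [Subgroup.relIndex, ← hker, Subgroup.index_ker]
    refine Nat.card_congr (Equiv.subtypeEquivRight fun q => ?_)
    obtain ⟨x, rfl⟩ := QuotientGroup.mk_surjective q
    constructor
    · intro h
      exact ⟨⟨x, (hfix x).1 h⟩, rfl⟩
    · rintro ⟨t, ht⟩
      rw [← ht]
      exact (hfix t).2 t.2

/-- **A block with at most three characters and elementary abelian normal defect group has
cyclic defect group.** -/
theorem isCyclic_of_card_le_three [CharP (Residue M) p] (hM : IsPModular p M) (V : Subgroup X)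
    [V.Normal] (hab : ∀ a ∈ V, ∀ c ∈ V, a * c = c * a) (hexp : ∀ a ∈ V, a ^ p = 1)
    {b : Set (IrrCharacter X)} (hb : IsPBlock M b) (hbV : IsDefectGroup p M b V)
    (hk : Nat.card b ≤ 3) : IsCyclic V := by
  classical
  haveI := finite_irrCharacter X
  have hp : p.Prime := Fact.out
  set C := Subgroup.centralizer (V : Set X) with hCdef
  haveI hCn : C.Normal := Subgroup.normal_centralizer
  haveI : Fintype C := Fintype.ofFinite _
  haveI : Fintype (X ⧸ V) := Fintype.ofFinite _
  have hVC : V ≤ C := fun a ha => Subgroup.mem_centralizer_iff.2 fun c hc => hab c hc a ha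
  have hcard := card_defectGroup hM hb hbV
  have hVp : IsPGroup p V := IsPGroup.of_card hcard
  obtain ⟨χ₀, hχ₀, hker⟩ := exists_ker_mem_block hM hb V hVp
  obtain ⟨φ, hφ⟩ := exists_quotient_irr V χ₀ hker
  have hd : (charDegree (χ₀ : X → ℂ)).factorization p + (Nat.card V).factorization p =
      (Nat.card X).factorization p := by
    have h1 := degree_ge hM hb hχ₀
    have h2 : (Nat.card V).factorization p = blockDefect p b := by
      rw [hcard, hp.factorization_pow, Finsupp.single_eq_same]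
    have h3 := congrArg (fun n : ℕ => n.factorization p) V.card_mul_index
    simp only [Nat.factorization_mul Nat.card_pos.ne' Subgroup.index_ne_zero_of_finite,
      Finsupp.add_apply] at h3
    have he : charDegree (χ₀ : X → ℂ) = charDegree (φ : X ⧸ V → ℂ) := by
      rw [charDegree, charDegree, hφ 1, QuotientGroup.mk_one]
    have h4 : (charDegree (χ₀ : X → ℂ)).factorization p ≤ V.index.factorization p := by
      rw [he, Subgroup.index_eq_card]
      exact (Nat.factorization_le_iff_dvd (irr_one φ).2.ne' Nat.card_pos.ne').2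
        (charDegree_dvd_card φ) p
    omega
  obtain ⟨θ, hθc, hθV, hθw⟩ := CfsgLib.BlockB.exists_constituent_of_weight (Q := V) (C := C) hp hker hd
  rw [inf_eq_left.2 hVC] at hθw
  let c := blockOf M (θ : C → ℂ)
  have hc : IsPBlock M c := isPBlock_blockOf θ
  let V' := V.subgroupOf C
  let e : V' ≃* V := Subgroup.subgroupOfEquivOfLe hVC
  have hcen : Subgroup.centralizer (V' : Set C) = ⊤ :=
    eq_top_iff.2 fun x _ => Subgroup.mem_centralizer_iff.2 fun v hv => Subtype.ext
      (Subgroup.mem_centralizer_iff.1 x.2 v hv)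
  have hV'p : IsPGroup p V' := hVp.of_equiv e.symm
  have hcD : IsDefectGroup p M c V' :=
    isDefectGroup_of_weight hM hV'p hcen θ (fun v hv => hθV v hv)
      (by rw [Nat.card_congr e.toEquiv]; exact hθw)
  have huni := (split_block_count hM hV'p (by rw [hcen, sup_top_eq]) hc hcD).1
  set T := inertia (θ : C → ℂ) with hTdef
  haveI : Fintype T := Fintype.ofFinite _
  have hCT : C ≤ T := le_inertia (isClassFunction_irr θ)
  have hS : IsStab c T := by
    intro g η hη
    have h1 := sameBlock_conjIrr (M := M) g (hη : SameBlock M (θ : C → ℂ) (η : C → ℂ))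
    constructor
    · intro hg
      rwa [show conjIrr g θ = θ from Subtype.ext ((mem_inertia _ g).1 hg)] at h1
    · intro hg
      have h2 : conjIrr g θ ∈ c := fun n => memLocalIdeal_sub_trans
        ((hg : SameBlock M (θ : C → ℂ) _) n) (memLocalIdeal_sub_comm (h1 n))
      have h3 := huni.unique (y₁ := conjIrr g θ) (y₂ := θ) ⟨h2, fun v hv => ?_⟩
        ⟨mem_blockOf_self θ, fun v hv => hθV v hv⟩
      · exact (mem_inertia _ g).2 (congrArg Subtype.val h3)
      · rw [conjIrr_coe, conjOn_apply, conjOn_apply_one]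
        exact hθV _ (Subgroup.Normal.conj_mem ‹V.Normal› _ hv g)
  obtain ⟨ψ, hψ, hψc⟩ := exists_stab_inducing hS hCT (mem_blockOf_self θ) hθc
  let B' := blockOf M (ψ : T → ℂ)
  have hB' : IsPBlock M B' := isPBlock_blockOf ψ
  obtain ⟨B, hind, -, hfwd, hbwd⟩ := stab_block_correspond hc hS hCT hB'
    ⟨ψ, mem_blockOf_self ψ, θ, mem_blockOf_self θ, hψc⟩
  have hBb : B = b := by
    rw [eq_blockOf_of_mem hind.2.1 (mem_induced_of_indFun hind (mem_blockOf_self ψ) hψ),
      ← eq_blockOf_of_mem hb hχ₀]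
  subst hBb
  choose up hup using hfwd
  have hover : ∀ η ∈ B', ∃ ζ ∈ c, classInner (resN hCT (η : T → ℂ)) (ζ : C → ℂ) ≠ 0 := fun η hη =>
    over_of_sameBlock hc hS hCT (sameBlock_of_mem hB' (mem_blockOf_self ψ) hη)
      ⟨θ, mem_blockOf_self θ, hψc⟩
  have hk' : Nat.card B' ≤ 3 := by
    refine le_trans (Nat.card_le_card_of_injective (fun η : B' => (⟨up η.1 η.2, (hup η.1 η.2).1⟩ : B))
      fun η η' he => ?_) hk
    have he' : up η.1 η.2 = up η'.1 η'.2 := congrArg Subtype.val he
    obtain ⟨ζ, hζ, hζc⟩ := hover η.1 η.2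
    obtain ⟨ζ', hζ', hζc'⟩ := hover η'.1 η'.2
    refine Subtype.ext (eq_of_constituent_over hS hCT (hup η'.1 η'.2).2 hζ' hζc' hζ hζc ?_)
    rw [← classInner_indFun_right (isClassFunction_irr _), ← (hup η.1 η.2).2, ← he',
      IsIrrCharacter.classInner_self (up η.1 η.2).2]
    exact one_ne_zero
  have hdef := (stab_defect_height (p := p) hB' (fun η hη => ⟨up η hη, hup η hη⟩) hbwd).1
  let VT := V.subgroupOf T
  let eT : VT ≃* V := Subgroup.subgroupOfEquivOfLe (hVC.trans hCT)
  obtain ⟨D, hD⟩ := exists_defectGroup (p := p) hB' hM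
  have hVD : VT = D := Subgroup.eq_of_le_of_card_ge
    (normal_le_defectGroup hM hB' hD VT (hVp.of_equiv eT.symm))
    (by rw [card_defectGroup hM hB' hD, ← hdef, ← hcard, Nat.card_congr eT.toEquiv])
  let eC : C.subgroupOf T ≃* C := Subgroup.subgroupOfEquivOfLe hCT
  haveI : Fintype (C.subgroupOf T) := Fintype.ofFinite _
  haveI : IsCyclic VT := by
    refine core hM VT (fun a ha d hd => Subtype.ext (hab _ ha _ hd))
      (fun a ha => Subtype.ext (by simpa using hexp _ ha)) (C.subgroupOf T) ?_ hB' (hVD ▸ hD) hk'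
      (irrComp eC θ) ?_ ?_ ?_ (mem_blockOf_self ψ) ?_
    · ext t
      rw [Subgroup.mem_subgroupOf, hCdef, Subgroup.mem_centralizer_iff,
        Subgroup.mem_centralizer_iff]
      constructor
      · exact fun h v hv => Subtype.ext (h v hv)
      · exact fun h v hv =>
          congrArg Subtype.val (h ⟨v, hCT (hVC hv)⟩ (Subgroup.mem_subgroupOf.2 hv))
    · intro n hn
      rw [irrComp_coe]
      simp only [map_one]
      exact hθV _ hn
    · rw [Nat.card_congr eT.toEquiv, Nat.card_congr eC.toEquiv]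
      have hdeq : charDegree (irrComp eC θ : C.subgroupOf T → ℂ) = charDegree (θ : C → ℂ) := by
        simp [charDegree, irrComp_coe]
      rw [hdeq]
      exact hθw
    · refine inertia_eq_top fun t n => ?_
      exact (mem_inertia_iff (θ : C → ℂ) (t : X)).1 t.2 (eC n)
    · rw [show (irrComp eC θ : C.subgroupOf T → ℂ) = pullBack (θ : C → ℂ) from rfl,
        classInner_pullBack_res hCT]
      exact hψc
  exact isCyclic_of_surjective eT eT.surjective

end CfsgLib.ThreeNormal
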